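import Groth.Prelude.Def_GLinSh
import Mathlib.AlgebraicGeometry.Morphisms.QuasiSeparated

/-!
Weight functions on the total space of a line bundle: coefficients, loci of non-vanishing, ratios.
-/

set_option autoImplicit false
set_option linter.style.haveILetI false
set_option linter.unusedSectionVars false
set_option backward.isDefEq.respectTransparency false

universe u

open CategoryTheory CategoryTheory.Limits MonoidalCategory CartesianMonoidalCategory MonObj AlgebraicGeometry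
  Opposite TopologicalSpace

namespace Groth.Agent.H20SS

noncomputable section

variable {S : Scheme.{u}} {X V : Over S} {π : V ⟶ X}

theorem res_res {Y : Scheme.{u}} {U W W' : Y.Opens} (h : W ≤ U) (h' : W' ≤ W) (a : Γ(Y, U)) :
    Y.presheaf.map (homOfLE h').op (Y.presheaf.map (homOfLE h).op a) =
      Y.presheaf.map (homOfLE (h'.trans h)).op a := by
  rw [← CommRingCat.comp_apply, ← Functor.map_comp]
  rfl

theorem appLE_appLE {A B C : Scheme.{u}} (f : A ⟶ B) (g : B ⟶ C) {U : C.Opens} {W : B.Opens} {O : A.Opens}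
    (e₁ : W ≤ g ⁻¹ᵁ U) (e₂ : O ≤ f ⁻¹ᵁ W) (a : Γ(C, U)) :
    f.appLE W O e₂ (g.appLE U W e₁ a) = (f ≫ g).appLE U O (e₂.trans (f.preimage_mono e₁)) a := by
  rw [← CommRingCat.comp_apply, Scheme.Hom.appLE_comp_appLE]

theorem res_appLE {A B : Scheme.{u}} (f : A ⟶ B) {U : B.Opens} {O O' : A.Opens} (e : O ≤ f ⁻¹ᵁ U) (h : O' ≤ O)
    (a : Γ(B, U)) : A.presheaf.map (homOfLE h).op (f.appLE U O e a) = f.appLE U O' (h.trans e) a := by
  rw [← CommRingCat.comp_apply, Scheme.Hom.appLE_map]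

theorem appLE_res {A B : Scheme.{u}} (f : A ⟶ B) {U U' : B.Opens} {O : A.Opens} (e : O ≤ f ⁻¹ᵁ U') (h : U' ≤ U)
    (a : Γ(B, U)) : f.appLE U' O e (B.presheaf.map (homOfLE h).op a) = f.appLE U O (e.trans (f.preimage_mono h)) a := by
  rw [← CommRingCat.comp_apply, Scheme.Hom.map_appLE]

theorem appLE_congr_hom {A B : Scheme.{u}} {f g : A ⟶ B} (h : f = g) {U : B.Opens} {O : A.Opens} (e : O ≤ f ⁻¹ᵁ U)
    (a : Γ(B, U)) : f.appLE U O e a = g.appLE U O (h ▸ e) a := by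
  subst h; rfl

/-- Sections agreeing near every point are equal. -/
theorem eq_of_locally {Y : Scheme.{u}} {U : Y.Opens} (a b : Γ(Y, U))
    (h : ∀ x ∈ U, ∃ (W : Y.Opens) (hW : W ≤ U), x ∈ W ∧
      Y.presheaf.map (homOfLE hW).op a = Y.presheaf.map (homOfLE hW).op b) : a = b := by
  choose W hW hx he using fun x : U => h x.1 x.2
  exact TopCat.Sheaf.eq_of_locally_eq' Y.sheaf W U (fun x => homOfLE (hW x))
    (fun x hx' => Opens.mem_iSup.2 ⟨⟨x, hx'⟩, hx ⟨x, hx'⟩⟩) a b he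

/-- The spectrum form of an evaluation: a section of `π` over an affine open. -/
theorem appLE_section {A C : Scheme.{u}} {W : A.Opens} {V : C.Opens} (hW : IsAffineOpen W) (hV : IsAffineOpen V)
    (θ : Γ(C, V) ⟶ Γ(A, W)) {h : ⊤ ≤ (hW.isoSpec.hom ≫ Spec.map θ ≫ hV.fromSpec) ⁻¹ᵁ V} :
    (hW.isoSpec.hom ≫ Spec.map θ ≫ hV.fromSpec).appLE V ⊤ h = θ ≫ W.topIso.inv := by
  have e1 : hV.fromSpec.appLE V ⊤ (by rw [hV.fromSpec_preimage_self]) = (Scheme.ΓSpecIso Γ(C, V)).inv := by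
    rw [Scheme.Hom.appLE, IsAffineOpen.fromSpec_app_self, Category.assoc, ← Functor.map_comp]
    refine (congrArg (_ ≫ ·) ((congrArg _ (Subsingleton.elim _ (𝟙 _))).trans ((Spec Γ(C, V)).presheaf.map_id _))).trans
      (Category.comp_id _)
  have e2 : (Spec.map θ).appLE ⊤ ⊤ le_top = (Spec.map θ).appTop := Scheme.Hom.appLE_eq_app _
  have e3 : hW.isoSpec.hom.appLE ⊤ ⊤ le_top = hW.isoSpec.hom.appTop := Scheme.Hom.appLE_eq_app _
  rw [← Scheme.Hom.appLE_comp_appLE hW.isoSpec.hom (Spec.map θ ≫ hV.fromSpec) V ⊤ ⊤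
    (by simp [Scheme.Hom.comp_preimage, hV.fromSpec_preimage_self]) le_top,
    ← Scheme.Hom.appLE_comp_appLE (Spec.map θ) hV.fromSpec V ⊤ ⊤ (by rw [hV.fromSpec_preimage_self]) le_top,
    e1, e2, e3, hW.isoSpec_hom_appTop, ← Scheme.ΓSpecIso_inv_naturality, Category.assoc, Iso.inv_hom_id_assoc]

variable (A : GLinSh.LinAtlas π)

/-- Over an affine open inside a chart there is a section of the line bundle with coordinate one. -/
theorem exists_unitSection {U : X.left.Opens} {y : Γ(V.left, π.left ⁻¹ᵁ U)} (hy : y ∈ A.chart U)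
    {W : X.left.Opens} (hW : IsAffineOpen W) (hWU : W ≤ U) :
    ∃ σ : Over.mk (W.ι ≫ X.hom) ⟶ V, σ ≫ π = Over.homMk W.ι rfl ∧
      ∃ e : ⊤ ≤ σ.left ⁻¹ᵁ (π.left ⁻¹ᵁ W), σ.left.appLE (π.left ⁻¹ᵁ W) ⊤ e (GLinSh.res π hWU y) = 1 := by
  haveI := A.affine
  have hV : IsAffineOpen (π.left ⁻¹ᵁ W) := hW.preimage π.left
  let e := Polynomial.eval₂RingHom (π.left.app W).hom (GLinSh.res π hWU y)
  have he : Function.Bijective e := A.coord U y hy W hW hWU
  let θ : Γ(V.left, π.left ⁻¹ᵁ W) ⟶ Γ(X.left, W) :=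
    CommRingCat.ofHom ((Polynomial.evalRingHom (1 : Γ(X.left, W))).comp (RingEquiv.ofBijective e he).symm.toRingHom)
  have hθ : π.left.app W ≫ θ = 𝟙 _ := by
    refine CommRingCat.hom_ext (RingHom.ext fun c => ?_)
    have h1 : (RingEquiv.ofBijective e he).symm ((π.left.app W).hom c) = Polynomial.C c :=
      (RingEquiv.ofBijective e he).injective (by simp [e])
    simp [θ, h1]
  have hθy : θ (GLinSh.res π hWU y) = 1 := by
    have h1 : (RingEquiv.ofBijective e he).symm (GLinSh.res π hWU y) = Polynomial.X :=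
      (RingEquiv.ofBijective e he).injective (by simp [e])
    simp [θ, h1]
  let s : W.toScheme ⟶ V.left := hW.isoSpec.hom ≫ Spec.map θ ≫ hV.fromSpec
  have hsπ : s ≫ π.left = W.ι := by
    show hW.isoSpec.hom ≫ Spec.map θ ≫ hV.fromSpec ≫ π.left = _
    rw [← IsAffineOpen.SpecMap_appLE_fromSpec π.left hW hV le_rfl, ← Scheme.Hom.app_eq_appLE,
      ← Spec.map_comp_assoc, hθ, Spec.map_id, Category.id_comp, IsAffineOpen.isoSpec_hom_fromSpec]
  have hle : ⊤ ≤ s ⁻¹ᵁ (π.left ⁻¹ᵁ W) := fun z _ => by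
    show (s ≫ π.left) z ∈ W
    rw [hsπ]
    exact W.range_ι.le ⟨z, rfl⟩
  refine ⟨Over.homMk s (by rw [← Over.w π, ← Category.assoc, hsπ]; rfl), Over.OverMorphism.ext hsπ, hle, ?_⟩
  have h1 : s.appLE (π.left ⁻¹ᵁ W) ⊤ hle = θ ≫ W.topIso.inv := appLE_section hW hV θ
  show s.appLE (π.left ⁻¹ᵁ W) ⊤ hle (GLinSh.res π hWU y) = 1
  rw [h1, CommRingCat.comp_apply, hθy, map_one]

/-- A unit section evaluates a function of weight `n` to its coefficient. -/
theorem unitSection_eval {U : X.left.Opens} {y : Γ(V.left, π.left ⁻¹ᵁ U)}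
    {W : X.left.Opens} (hWU : W ≤ U) {σ : Over.mk (W.ι ≫ X.hom) ⟶ V} (hσ : σ ≫ π = Over.homMk W.ι rfl)
    (e : ⊤ ≤ σ.left ⁻¹ᵁ (π.left ⁻¹ᵁ W)) (h1 : σ.left.appLE (π.left ⁻¹ᵁ W) ⊤ e (GLinSh.res π hWU y) = 1)
    {W' : X.left.Opens} (hW' : W' ≤ U) (O : W.toScheme.Opens) (hO : O ≤ W.ι ⁻¹ᵁ W') (n : ℕ) (c : Γ(X.left, W'))
    (he : O ≤ σ.left ⁻¹ᵁ (π.left ⁻¹ᵁ W')) :
    σ.left.appLE (π.left ⁻¹ᵁ W') O he (π.left.app W' c * GLinSh.res π hW' y ^ n) = W.ι.appLE W' O hO c := by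
  have h2 : σ.left.appLE (π.left ⁻¹ᵁ W') O he (GLinSh.res π hW' y) = 1 := by
    have := congrArg (W.toScheme.presheaf.map (homOfLE (le_top : O ≤ ⊤)).op) h1
    rw [map_one] at this
    refine Eq.trans ?_ this
    refine Eq.trans ?_ (res_appLE σ.left e le_top _).symm
    unfold GLinSh.res
    rw [appLE_res, appLE_res]
  rw [map_mul, map_pow, h2, one_pow, _root_.mul_one, Scheme.Hom.app_eq_appLE, appLE_appLE]
  exact appLE_congr_hom (congrArg (fun m : Over.mk (W.ι ≫ X.hom) ⟶ X => m.left) hσ) _ c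

/-- The coefficient of a function of weight `n` in a chart is unique. -/
theorem coeff_unique {U : X.left.Opens} {y : Γ(V.left, π.left ⁻¹ᵁ U)} (hy : y ∈ A.chart U) {W : X.left.Opens}
    (hWU : W ≤ U) (n : ℕ) {c c' : Γ(X.left, W)}
    (h : π.left.app W c * GLinSh.res π hWU y ^ n = π.left.app W c' * GLinSh.res π hWU y ^ n) : c = c' := by
  refine eq_of_locally c c' fun x hx => ?_
  obtain ⟨W₀, hW₀, hxW₀, hle'⟩ := exists_isAffineOpen_mem_and_subset (x := x) (U := W) hx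
  have hle : W₀ ≤ W := hle'
  obtain ⟨σ, hσ, e, he⟩ := exists_unitSection A hy hW₀ (le_trans hle hWU)
  refine ⟨W₀, hle, hxW₀, W₀.topIso.commRingCatIsoToRingEquiv.symm.injective ?_⟩
  have hW₀' : ⊤ ≤ W₀.ι ⁻¹ᵁ W := fun z _ => hle z.2
  have he' : ⊤ ≤ σ.left ⁻¹ᵁ (π.left ⁻¹ᵁ W) := e.trans (σ.left.preimage_mono (π.left.preimage_mono hle))
  have key := congrArg (σ.left.appLE (π.left ⁻¹ᵁ W) ⊤ he') h
  rw [unitSection_eval (le_trans hle hWU) hσ e he hWU ⊤ hW₀' n c he',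
    unitSection_eval (le_trans hle hWU) hσ e he hWU ⊤ hW₀' n c' he'] at key
  have hι : ∀ a : Γ(X.left, W), W₀.topIso.commRingCatIsoToRingEquiv.symm
      (X.left.presheaf.map (homOfLE hle).op a) = W₀.ι.appLE W ⊤ hW₀' a := fun a => by
    show W₀.topIso.inv (X.left.presheaf.map (homOfLE hle).op a) = _
    rw [Scheme.Opens.topIso_inv, Scheme.Opens.ι_appLE, ← CommRingCat.comp_apply, ← Functor.map_comp]
    rfl
  rw [hι, hι]
  exact key

variable {A}

theorem res_eq {U W : X.left.Opens} (h : W ≤ U) (y : Γ(V.left, π.left ⁻¹ᵁ U)) :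
    V.left.presheaf.map (homOfLE (π.left.preimage_mono h)).op y = GLinSh.res π h y := rfl

theorem res_app {U W : X.left.Opens} (h : W ≤ U) (c : Γ(X.left, U)) :
    GLinSh.res π h (π.left.app U c) = π.left.app W (X.left.presheaf.map (homOfLE h).op c) := by
  unfold GLinSh.res
  rw [Scheme.Hom.app_eq_appLE, res_appLE, Scheme.Hom.app_eq_appLE, appLE_res]

theorem res_resTop {U W : X.left.Opens} (h : W ≤ U) (f : Γ(V.left, ⊤)) :
    GLinSh.res π h (GLinSh.resTop π U f) = GLinSh.resTop π W f := res_res _ _ f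

theorem res_coeff {U W : X.left.Opens} (h : W ≤ U) {n : ℕ} {f : Γ(V.left, ⊤)} {c : Γ(X.left, U)}
    {y : Γ(V.left, π.left ⁻¹ᵁ U)} (hc : GLinSh.resTop π U f = π.left.app U c * y ^ n) :
    GLinSh.resTop π W f = π.left.app W (X.left.presheaf.map (homOfLE h).op c) * GLinSh.res π h y ^ n := by
  rw [← res_resTop h, hc]
  unfold GLinSh.res
  rw [map_mul, map_pow]
  exact congrArg (· * _) (res_app h c)

/-- The coefficient cuts out the non-vanishing locus. -/
theorem nonvanishing_inter {U : X.left.Opens} {y : Γ(V.left, π.left ⁻¹ᵁ U)} (hy : y ∈ A.chart U) {n : ℕ}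
    {f : Γ(V.left, ⊤)} {c : Γ(X.left, U)} (hc : GLinSh.resTop π U f = π.left.app U c * y ^ n) :
    GLinSh.nonvanishing π f ∩ U = X.left.basicOpen c := by
  ext x
  constructor
  · rintro ⟨⟨p, hp, rfl⟩, hxU⟩
    have h1 : p ∈ V.left.basicOpen (GLinSh.resTop π U f) := by
      rw [GLinSh.resTop, Scheme.basicOpen_res]
      exact ⟨hxU, hp⟩
    rw [hc, Scheme.basicOpen_mul] at h1
    show p ∈ π.left ⁻¹ᵁ X.left.basicOpen c
    rw [Scheme.preimage_basicOpen]
    exact h1.1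
  · intro hx
    have hxU : x ∈ U := X.left.basicOpen_le c hx
    refine ⟨?_, hxU⟩
    obtain ⟨W, hW, hxW, hWU⟩ := exists_isAffineOpen_mem_and_subset (x := x) (U := U) hxU
    obtain ⟨σ, hσ, e, he⟩ := exists_unitSection A hy hW hWU
    have he' : ⊤ ≤ σ.left ⁻¹ᵁ (π.left ⁻¹ᵁ U) := e.trans (σ.left.preimage_mono (π.left.preimage_mono hWU))
    have hW' : ⊤ ≤ W.ι ⁻¹ᵁ U := fun z _ => hWU z.2
    have h1 := unitSection_eval hWU hσ e he le_rfl ⊤ hW' n c he'
    have hy' : GLinSh.res π (le_refl U) y = y := by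
      unfold GLinSh.res
      rw [show (homOfLE (π.left.preimage_mono (le_refl U))).op = 𝟙 _ from rfl, V.left.presheaf.map_id]
      rfl
    rw [hy', ← hc] at h1
    let q : W.toScheme := ⟨x, hxW⟩
    refine ⟨σ.left q, ?_, ?_⟩
    · have hq : q ∈ W.toScheme.basicOpen (W.ι.appLE U ⊤ hW' c) := by
        rw [Scheme.basicOpen_appLE]
        exact ⟨trivial, hx⟩
      rw [← h1] at hq
      have h2 : σ.left q ∈ V.left.basicOpen (GLinSh.resTop π U f) :=
        ((SetLike.ext_iff.mp (Scheme.basicOpen_appLE σ.left _ _ he' (GLinSh.resTop π U f)) q).mp hq).2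
      rw [GLinSh.resTop, Scheme.basicOpen_res] at h2
      exact h2.2
    · show (σ.left ≫ π.left) q = x
      rw [← Over.comp_left, hσ]
      rfl

theorem isOpen_nonvanishing (A : GLinSh.LinAtlas π) {n : ℕ} {f : Γ(V.left, ⊤)} (hf : GLinSh.HasWeight A.chart n f) :
    IsOpen (GLinSh.nonvanishing π f) := by
  rw [isOpen_iff_forall_mem_open]
  intro x hx
  obtain ⟨U, hxU, y, hy⟩ := A.cover x
  obtain ⟨c, hc⟩ := hf U y hy
  refine ⟨GLinSh.nonvanishing π f ∩ U, Set.inter_subset_left, ?_, hx, hxU⟩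
  rw [nonvanishing_inter hy hc]
  exact (X.left.basicOpen c).2

variable (π) in
/-- The open locus of non-vanishing (the interior of the non-vanishing locus). -/
def nvOpen (f : Γ(V.left, ⊤)) : X.left.Opens := ⟨interior (GLinSh.nonvanishing π f), isOpen_interior⟩

theorem coe_nvOpen (A : GLinSh.LinAtlas π) {n : ℕ} {f : Γ(V.left, ⊤)} (hf : GLinSh.HasWeight A.chart n f) :
    (nvOpen π f : Set X.left) = GLinSh.nonvanishing π f := (isOpen_nonvanishing A hf).interior_eq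

theorem nvOpen_inf (A : GLinSh.LinAtlas π) {n : ℕ} {f : Γ(V.left, ⊤)} (hf : GLinSh.HasWeight A.chart n f)
    {U : X.left.Opens} {y : Γ(V.left, π.left ⁻¹ᵁ U)} (hy : y ∈ A.chart U) {c : Γ(X.left, U)}
    (hc : GLinSh.resTop π U f = π.left.app U c * y ^ n) : nvOpen π f ⊓ U = X.left.basicOpen c :=
  Opens.ext (by rw [Opens.coe_inf, coe_nvOpen A hf, nonvanishing_inter hy hc])

theorem basicOpen_le_preimage_nvOpen (A : GLinSh.LinAtlas π) {n : ℕ} {f : Γ(V.left, ⊤)}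
    (hf : GLinSh.HasWeight A.chart n f) : V.left.basicOpen f ≤ π.left ⁻¹ᵁ nvOpen π f := fun p hp =>
  (coe_nvOpen A hf).ge (Set.mem_image_of_mem π.left.base hp)

end

end Groth.Agent.H20SS
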