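import Groth.Agent.H20SS.Sections

/-!
Sums, products and ratios of weight functions.
-/

set_option autoImplicit false
set_option linter.style.haveILetI false
set_option linter.unusedSectionVars false
set_option backward.isDefEq.respectTransparency false

universe u

open CategoryTheory CategoryTheory.Limits MonoidalCategory CartesianMonoidalCategory MonObj AlgebraicGeometry
  Opposite TopologicalSpace

namespace Groth.Agent.H20SS

noncomputable section

variable {S : Scheme.{u}} {X V : Over S} {π : V ⟶ X} (A : GLinSh.LinAtlas π)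

theorem hasWeight_add {n : ℕ} {f g : Γ(V.left, ⊤)} (hf : GLinSh.HasWeight A.chart n f)
    (hg : GLinSh.HasWeight A.chart n g) : GLinSh.HasWeight A.chart n (f + g) := fun U y hy => by
  obtain ⟨c, hc⟩ := hf U y hy
  obtain ⟨d, hd⟩ := hg U y hy
  exact ⟨c + d, by unfold GLinSh.resTop at hc hd ⊢; rw [map_add, hc, hd, map_add, add_mul]⟩

theorem hasWeight_zero (n : ℕ) : GLinSh.HasWeight A.chart n (0 : Γ(V.left, ⊤)) := fun U y _ =>
  ⟨0, by unfold GLinSh.resTop; rw [map_zero, map_zero, zero_mul]⟩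

theorem hasWeight_neg {n : ℕ} {f : Γ(V.left, ⊤)} (hf : GLinSh.HasWeight A.chart n f) :
    GLinSh.HasWeight A.chart n (-f) := fun U y hy => by
  obtain ⟨c, hc⟩ := hf U y hy
  exact ⟨-c, by unfold GLinSh.resTop at hc ⊢; rw [map_neg, hc, map_neg, neg_mul]⟩

theorem hasWeight_mul {n m : ℕ} {f g : Γ(V.left, ⊤)} (hf : GLinSh.HasWeight A.chart n f)
    (hg : GLinSh.HasWeight A.chart m g) : GLinSh.HasWeight A.chart (n + m) (f * g) := fun U y hy => by
  obtain ⟨c, hc⟩ := hf U y hy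
  obtain ⟨d, hd⟩ := hg U y hy
  exact ⟨c * d, by unfold GLinSh.resTop at hc hd ⊢; rw [map_mul, hc, hd, map_mul, pow_add, _root_.mul_mul_mul_comm]⟩

theorem hasWeight_pullback (c : Γ(X.left, ⊤)) : GLinSh.HasWeight A.chart 0 (π.left.appTop c) := fun U y _ =>
  ⟨X.left.presheaf.map (homOfLE le_top).op c, by
    rw [pow_zero, _root_.mul_one]
    exact res_app (le_top : U ≤ ⊤) c⟩

theorem hasWeight_one : GLinSh.HasWeight A.chart 0 (1 : Γ(V.left, ⊤)) := by
  have h := hasWeight_pullback A (1 : Γ(X.left, ⊤))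
  rwa [map_one] at h

theorem hasWeight_pow {n : ℕ} {f : Γ(V.left, ⊤)} (hf : GLinSh.HasWeight A.chart n f) (m : ℕ) :
    GLinSh.HasWeight A.chart (m * n) (f ^ m) := by
  induction m with
  | zero => rw [Nat.zero_mul, pow_zero]; exact hasWeight_one A
  | succ m ih => rw [Nat.succ_mul, pow_succ]; exact hasWeight_mul A ih hf

theorem nvOpen_mul {n m : ℕ} {f g : Γ(V.left, ⊤)} (hf : GLinSh.HasWeight A.chart n f)
    (hg : GLinSh.HasWeight A.chart m g) : nvOpen π (f * g) = nvOpen π f ⊓ nvOpen π g := by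
  ext x
  obtain ⟨U, hxU, y, hy⟩ := A.cover x
  obtain ⟨c, hc⟩ := hf U y hy
  obtain ⟨d, hd⟩ := hg U y hy
  have hcd : GLinSh.resTop π U (f * g) = π.left.app U (c * d) * y ^ (n + m) := by
    unfold GLinSh.resTop at hc hd ⊢
    rw [map_mul, hc, hd, map_mul, pow_add, _root_.mul_mul_mul_comm]
  have h1 := SetLike.ext_iff.1 (nvOpen_inf A hf hy hc) x
  have h2 := SetLike.ext_iff.1 (nvOpen_inf A hg hy hd) x
  have h3 := SetLike.ext_iff.1 (nvOpen_inf A (hasWeight_mul A hf hg) hy hcd) x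
  rw [Scheme.basicOpen_mul] at h3
  simp only [Opens.mem_inf, hxU, and_true] at h1 h2 h3
  show x ∈ nvOpen π (f * g) ↔ x ∈ nvOpen π f ⊓ nvOpen π g
  rw [Opens.mem_inf, h1, h2, h3]

include A in
theorem nvOpen_one : nvOpen π (1 : Γ(V.left, ⊤)) = ⊤ := by
  refine top_le_iff.1 fun x _ => ?_
  obtain ⟨U, hxU, y, hy⟩ := A.cover x
  have hc : GLinSh.resTop π U (1 : Γ(V.left, ⊤)) = π.left.app U 1 * y ^ 0 := by
    unfold GLinSh.resTop
    rw [map_one, map_one, pow_zero, _root_.mul_one]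
  have := (SetLike.ext_iff.1 (nvOpen_inf A (hasWeight_one A) hy hc) x).2 (by rwa [Scheme.basicOpen_of_isUnit _ isUnit_one])
  exact this.1

theorem nvOpen_pow {n : ℕ} {f : Γ(V.left, ⊤)} (hf : GLinSh.HasWeight A.chart n f) {m : ℕ} (hm : 0 < m) :
    nvOpen π (f ^ m) = nvOpen π f := by
  obtain ⟨m, rfl⟩ : ∃ j, m = j + 1 := ⟨m - 1, by omega⟩
  clear hm
  induction m with
  | zero => rw [pow_one]
  | succ m ih => rw [pow_succ, nvOpen_mul A (hasWeight_pow A hf (m + 1)) hf, ih, inf_idem]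

/-- Having weight `n` is local on the base. -/
theorem hasWeight_of_local {n : ℕ} {f : Γ(V.left, ⊤)}
    (h : ∀ x : X.left, ∃ (W U : X.left.Opens) (hWU : W ≤ U) (y : Γ(V.left, π.left ⁻¹ᵁ U)), x ∈ W ∧ y ∈ A.chart U ∧
      ∃ a : Γ(X.left, W), GLinSh.resTop π W f = π.left.app W a * GLinSh.res π hWU y ^ n) :
    GLinSh.HasWeight A.chart n f := by
  intro U' y' hy'
  choose W U hWU y hxW hy a ha using h
  have key : ∀ x : U', ∃ b : Γ(X.left, U' ⊓ W x.1),
      GLinSh.resTop π (U' ⊓ W x.1) f = π.left.app (U' ⊓ W x.1) b * GLinSh.res π inf_le_left y' ^ n := by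
    intro x
    obtain ⟨u, -, hu⟩ := A.linear U' (U x.1) y' (y x.1) hy' (hy x.1)
    have hle : U' ⊓ W x.1 ≤ U' ⊓ U x.1 := inf_le_inf_left _ (hWU x.1)
    refine ⟨X.left.presheaf.map (homOfLE (inf_le_right : U' ⊓ W x.1 ≤ W x.1)).op (a x.1) *
      (X.left.presheaf.map (homOfLE hle).op u) ^ n, ?_⟩
    have h1 := res_coeff (inf_le_right : U' ⊓ W x.1 ≤ W x.1) (ha x.1)
    have h2 : GLinSh.res π (inf_le_right : U' ⊓ W x.1 ≤ W x.1) (GLinSh.res π (hWU x.1) (y x.1)) =
        π.left.app (U' ⊓ W x.1) (X.left.presheaf.map (homOfLE hle).op u) *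
          GLinSh.res π (inf_le_left : U' ⊓ W x.1 ≤ U') y' := by
      have := congrArg (GLinSh.res π hle) hu
      unfold GLinSh.res at this ⊢
      rw [map_mul] at this
      rw [res_res, res_res] at this
      rw [res_res]
      refine this.trans ?_
      refine congrArg₂ (· * ·) ?_ rfl
      exact res_app hle u
    rw [h1, h2, mul_pow, map_mul, map_pow, _root_.mul_assoc]
  choose b hb using key
  have hcov : U' ≤ iSup fun x : U' => U' ⊓ W x.1 := fun x hx => Opens.mem_iSup.2 ⟨⟨x, hx⟩, hx, hxW x⟩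
  have hcompat : TopCat.Presheaf.IsCompatible X.left.presheaf (fun x : U' => U' ⊓ W x.1) b := by
    intro i j
    refine coeff_unique A hy' (inf_le_left.trans inf_le_left) n ?_
    have e : ∀ (x : U') (O : X.left.Opens) (hO : O ≤ U' ⊓ W x.1), GLinSh.resTop π O f =
        π.left.app O (X.left.presheaf.map (homOfLE hO).op (b x)) * GLinSh.res π (hO.trans inf_le_left) y' ^ n :=
      fun x O hO => by
        rw [res_coeff hO (hb x)]
        unfold GLinSh.res
        rw [res_res]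
    exact (e i _ inf_le_left).symm.trans (e j _ inf_le_right)
  obtain ⟨c, hc, -⟩ := TopCat.Sheaf.existsUnique_gluing' X.left.sheaf (fun x : U' => U' ⊓ W x.1) U'
    (fun x => homOfLE inf_le_left) hcov b hcompat
  refine ⟨c, eq_of_locally _ _ fun p hp => ?_⟩
  let x : U' := ⟨π.left p, hp⟩
  refine ⟨π.left ⁻¹ᵁ (U' ⊓ W x.1), π.left.preimage_mono inf_le_left, ⟨hp, hxW _⟩, ?_⟩
  rw [map_mul, map_pow]
  refine (res_resTop inf_le_left f).trans ((hb x).trans (congrArg₂ (· * ·) ?_ rfl))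
  rw [← hc x]
  exact (res_app (inf_le_left : U' ⊓ W x.1 ≤ U') c).symm

variable (π) in
/-- Pulling back to the part of the non-vanishing locus lying over an open. -/
abbrev embSec (W : X.left.Opens) (f : Γ(V.left, ⊤)) :
    Γ(X.left, W) ⟶ Γ(V.left, π.left ⁻¹ᵁ W ⊓ V.left.basicOpen f) :=
  π.left.appLE W _ inf_le_left

variable (π) in
/-- Restriction to the part of the non-vanishing locus lying over an open. -/
abbrev resF (W : X.left.Opens) (f : Γ(V.left, ⊤)) :
    Γ(V.left, ⊤) ⟶ Γ(V.left, π.left ⁻¹ᵁ W ⊓ V.left.basicOpen f) :=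
  V.left.presheaf.map (homOfLE le_top).op

theorem isUnit_resF (W : X.left.Opens) (f : Γ(V.left, ⊤)) : IsUnit (resF π W f f) := by
  have h := RingedSpace.isUnit_res_basicOpen V.left.toRingedSpace f
  have h2 := h.map (V.left.presheaf.map (homOfLE (inf_le_right : π.left ⁻¹ᵁ W ⊓ V.left.basicOpen f ≤ _)).op).hom
  refine (congrArg IsUnit ?_).mp h2
  exact res_res _ _ f

theorem embSec_res {W W' : X.left.Opens} (h : W' ≤ W) (f : Γ(V.left, ⊤)) (a : Γ(X.left, W)) :
    V.left.presheaf.map (homOfLE (inf_le_inf_right _ (π.left.preimage_mono h) :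
      π.left ⁻¹ᵁ W' ⊓ V.left.basicOpen f ≤ π.left ⁻¹ᵁ W ⊓ V.left.basicOpen f)).op (embSec π W f a) =
      embSec π W' f (X.left.presheaf.map (homOfLE h).op a) := by
  rw [res_appLE, appLE_res]

/-- Pullback of functions is injective when there are sections landing in the given open. -/
theorem injective_appLE_of_sections {P C : Scheme.{u}} (p : P ⟶ C) (O : C.Opens) (D : P.Opens) (hD : D ≤ p ⁻¹ᵁ O)
    (h : ∀ c ∈ O, ∃ O' : C.Opens, c ∈ O' ∧ O' ≤ O ∧ ∃ s : O'.toScheme ⟶ P, s ≫ p = O'.ι ∧ ∀ z, s z ∈ D) :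
    Function.Injective (p.appLE O D hD) := by
  intro a b hab
  refine eq_of_locally a b fun c hc => ?_
  obtain ⟨O', hcO, hle, s, hs, hsD⟩ := h c hc
  refine ⟨O', hle, hcO, O'.topIso.commRingCatIsoToRingEquiv.symm.injective ?_⟩
  have hlow : ⊤ ≤ s ⁻¹ᵁ D := fun z _ => hsD z
  have hO : ⊤ ≤ O'.ι ⁻¹ᵁ O := fun z _ => hle z.2
  have hι : ∀ t : Γ(C, O), O'.topIso.commRingCatIsoToRingEquiv.symm (C.presheaf.map (homOfLE hle).op t) =
      s.appLE D ⊤ hlow (p.appLE O D hD t) := fun t => by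
    refine Eq.trans ?_ (appLE_appLE s p hD hlow t).symm
    refine Eq.trans ?_ (appLE_congr_hom hs.symm hO t)
    show O'.topIso.inv (C.presheaf.map (homOfLE hle).op t) = O'.ι.appLE O ⊤ hO t
    rw [Scheme.Opens.topIso_inv, Scheme.Opens.ι_appLE, ← CommRingCat.comp_apply, ← Functor.map_comp]
    rfl
  rw [hι, hι, hab]

/-- Around a point of the non-vanishing locus there is a section landing where the function is invertible. -/
theorem exists_section_mem_basicOpen {n : ℕ} {f : Γ(V.left, ⊤)} (hf : GLinSh.HasWeight A.chart n f)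
    {W : X.left.Opens} (hW : W ≤ nvOpen π f) {x : X.left} (hx : x ∈ W) :
    ∃ W₀ : X.left.Opens, x ∈ W₀ ∧ W₀ ≤ W ∧ ∃ σ : Over.mk (W₀.ι ≫ X.hom) ⟶ V,
      σ ≫ π = Over.homMk W₀.ι rfl ∧ ∀ z : W₀.toScheme, σ.left z ∈ V.left.basicOpen f := by
  obtain ⟨U, hxU, y, hy⟩ := A.cover x
  obtain ⟨c, hc⟩ := hf U y hy
  obtain ⟨W₀, hW₀, hxW₀, hle'⟩ := exists_isAffineOpen_mem_and_subset (x := x) (U := W ⊓ U) ⟨hx, hxU⟩
  have hle : W₀ ≤ W ⊓ U := hle'
  have hWU : W₀ ≤ U := hle.trans inf_le_right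
  have hW₀W : W₀ ≤ W := hle.trans inf_le_left
  obtain ⟨σ, hσ, e, he⟩ := exists_unitSection A hy hW₀ hWU
  refine ⟨W₀, hxW₀, hW₀W, σ, hσ, fun z => ?_⟩
  have hW₀' : ⊤ ≤ W₀.ι ⁻¹ᵁ U := fun z _ => hWU z.2
  have he' : ⊤ ≤ σ.left ⁻¹ᵁ (π.left ⁻¹ᵁ U) := e.trans (σ.left.preimage_mono (π.left.preimage_mono hWU))
  have hev := unitSection_eval hWU hσ e he le_rfl ⊤ hW₀' n c he'
  have hy' : GLinSh.res π (le_refl U) y = y := by
    unfold GLinSh.res
    rw [show (homOfLE (π.left.preimage_mono (le_refl U))).op = 𝟙 _ from rfl, V.left.presheaf.map_id]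
    rfl
  rw [hy', ← hc] at hev
  have hz : z.1 ∈ X.left.basicOpen c := by
    rw [← nvOpen_inf A hf hy hc]
    exact ⟨hW (hW₀W z.2), hWU z.2⟩
  have hq : z ∈ W₀.toScheme.basicOpen (W₀.ι.appLE U ⊤ hW₀' c) := by
    rw [Scheme.basicOpen_appLE]
    exact ⟨trivial, hz⟩
  rw [← hev] at hq
  have h2 : σ.left z ∈ V.left.basicOpen (GLinSh.resTop π U f) :=
    ((SetLike.ext_iff.mp (Scheme.basicOpen_appLE σ.left _ _ he' (GLinSh.resTop π U f)) z).mp hq).2
  rw [GLinSh.resTop, Scheme.basicOpen_res] at h2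
  exact h2.2

/-- Pullback to the non-vanishing locus is injective on opens inside the locus. -/
theorem injective_embSec {n : ℕ} {f : Γ(V.left, ⊤)} (hf : GLinSh.HasWeight A.chart n f) {W : X.left.Opens}
    (hW : W ≤ nvOpen π f) : Function.Injective (embSec π W f) :=
  injective_appLE_of_sections π.left W _ inf_le_left fun x hx => by
    obtain ⟨W₀, hxW₀, hle, σ, hσ, hσf⟩ := exists_section_mem_basicOpen A hf hW hx
    refine ⟨W₀, hxW₀, hle, σ.left, congrArg (fun m : Over.mk (W₀.ι ≫ X.hom) ⟶ X => m.left) hσ, fun z => ⟨?_, hσf z⟩⟩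
    show (σ.left ≫ π.left) z ∈ W
    rw [← Over.comp_left, hσ]
    exact hle z.2

/-- `h` is the ratio `g / f` over `W`. -/
def IsRatio (W : X.left.Opens) (f g : Γ(V.left, ⊤)) (h : Γ(X.left, W)) : Prop :=
  embSec π W f h * resF π W f f = resF π W f g

theorem IsRatio.eq {n : ℕ} {f g : Γ(V.left, ⊤)} (hf : GLinSh.HasWeight A.chart n f) {W : X.left.Opens}
    (hW : W ≤ nvOpen π f) {h h' : Γ(X.left, W)} (h₁ : IsRatio (π := π) W f g h) (h₂ : IsRatio (π := π) W f g h') :
    h = h' :=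
  injective_embSec A hf hW ((isUnit_resF W f).mul_left_injective (h₁.trans h₂.symm))

theorem IsRatio.res {f g : Γ(V.left, ⊤)} {W W' : X.left.Opens} (hW : W' ≤ W) {h : Γ(X.left, W)}
    (h₁ : IsRatio (π := π) W f g h) : IsRatio (π := π) W' f g (X.left.presheaf.map (homOfLE hW).op h) := by
  have := congrArg (V.left.presheaf.map (homOfLE (inf_le_inf_right _ (π.left.preimage_mono hW) :
      π.left ⁻¹ᵁ W' ⊓ V.left.basicOpen f ≤ π.left ⁻¹ᵁ W ⊓ V.left.basicOpen f)).op) h₁
  rw [map_mul, embSec_res, res_res, res_res] at this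
  exact this

theorem IsRatio.add {f g g' : Γ(V.left, ⊤)} {W : X.left.Opens} {h h' : Γ(X.left, W)}
    (h₁ : IsRatio (π := π) W f g h) (h₂ : IsRatio (π := π) W f g' h') : IsRatio (π := π) W f (g + g') (h + h') := by
  unfold IsRatio at h₁ h₂ ⊢
  rw [map_add, add_mul, h₁, h₂, map_add]

theorem IsRatio.mul_left {f g : Γ(V.left, ⊤)} {W : X.left.Opens} {h : Γ(X.left, W)} (t : Γ(X.left, ⊤))
    (h₁ : IsRatio (π := π) W f g h) :
    IsRatio (π := π) W f (π.left.appTop t * g) (X.left.presheaf.map (homOfLE le_top).op t * h) := by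
  unfold IsRatio at h₁ ⊢
  rw [map_mul, _root_.mul_assoc, h₁, map_mul]
  congr 1
  rw [appLE_res, Scheme.Hom.appTop, Scheme.Hom.app_eq_appLE]
  exact (res_appLE π.left _ le_top t).symm

theorem isRatio_zero (W : X.left.Opens) (f : Γ(V.left, ⊤)) : IsRatio (π := π) W f 0 0 := by
  unfold IsRatio
  rw [map_zero, zero_mul, map_zero]

theorem isRatio_self (W : X.left.Opens) (f : Γ(V.left, ⊤)) : IsRatio (π := π) W f f 1 := by
  unfold IsRatio
  rw [map_one, _root_.one_mul]

/-- Ratios of functions of the same weight exist. -/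
theorem exists_isRatio {n : ℕ} {f g : Γ(V.left, ⊤)} (hf : GLinSh.HasWeight A.chart n f)
    (hg : GLinSh.HasWeight A.chart n g) {W : X.left.Opens} (hW : W ≤ nvOpen π f) :
    ∃ h : Γ(X.left, W), IsRatio (π := π) W f g h := by
  have key : ∀ x : W, ∃ (O : X.left.Opens) (_ : O ≤ W) (_ : x.1 ∈ O), ∃ h : Γ(X.left, O), IsRatio (π := π) O f g h := by
    intro x
    obtain ⟨U, hxU, y, hy⟩ := A.cover x.1
    obtain ⟨c, hc⟩ := hf U y hy
    obtain ⟨d, hd⟩ := hg U y hy
    have hO : W ⊓ U ≤ U := inf_le_right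
    have hu : IsUnit (X.left.presheaf.map (homOfLE hO).op c) := by
      have h := RingedSpace.isUnit_res_basicOpen X.left.toRingedSpace c
      have hle : W ⊓ U ≤ X.left.basicOpen c := (inf_le_inf_right U hW).trans (nvOpen_inf A hf hy hc).le
      refine (congrArg IsUnit ?_).mp (h.map (X.left.presheaf.map (homOfLE hle).op).hom)
      exact res_res (X.left.basicOpen_le c) hle c
    obtain ⟨w, hw⟩ := hu
    refine ⟨W ⊓ U, inf_le_left, ⟨x.2, hxU⟩, X.left.presheaf.map (homOfLE hO).op d * (↑w⁻¹ : Γ(X.left, W ⊓ U)), ?_⟩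
    have e : ∀ (t : Γ(V.left, ⊤)) (b : Γ(X.left, U)), GLinSh.resTop π U t = π.left.app U b * y ^ n →
        resF π (W ⊓ U) f t = embSec π (W ⊓ U) f (X.left.presheaf.map (homOfLE hO).op b) *
          V.left.presheaf.map (homOfLE (inf_le_left.trans (π.left.preimage_mono hO) :
            π.left ⁻¹ᵁ (W ⊓ U) ⊓ V.left.basicOpen f ≤ π.left ⁻¹ᵁ U)).op y ^ n := by
      intro t b hb
      have := congrArg (V.left.presheaf.map (homOfLE (inf_le_left.trans (π.left.preimage_mono hO) :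
            π.left ⁻¹ᵁ (W ⊓ U) ⊓ V.left.basicOpen f ≤ π.left ⁻¹ᵁ U)).op) hb
      rw [map_mul, map_pow, res_res, Scheme.Hom.app_eq_appLE, res_appLE] at this
      rw [appLE_res]
      exact this
    unfold IsRatio
    rw [e f c hc, e g d hd, ← _root_.mul_assoc, ← map_mul, ← hw, _root_.mul_assoc, Units.inv_mul, _root_.mul_one]
  choose O hOW hxO h hh using key
  have hcompat : TopCat.Presheaf.IsCompatible X.left.presheaf O h := fun i j =>
    IsRatio.eq A hf ((inf_le_left.trans (hOW i)).trans hW) ((hh i).res inf_le_left) ((hh j).res inf_le_right)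
  obtain ⟨t, ht, -⟩ := TopCat.Sheaf.existsUnique_gluing' X.left.sheaf O W (fun x => homOfLE (hOW x))
    (fun x hx => Opens.mem_iSup.2 ⟨⟨x, hx⟩, hxO _⟩) h hcompat
  refine ⟨t, eq_of_locally _ _ fun p hp => ?_⟩
  let x : W := ⟨π.left p, hp.1⟩
  refine ⟨_, inf_le_inf_right _ (π.left.preimage_mono (hOW x)), ⟨hxO x, hp.2⟩, ?_⟩
  rw [map_mul, embSec_res (hOW x), show X.left.presheaf.map (homOfLE (hOW x)).op t = h x from ht x, res_res, res_res]
  exact hh x

theorem basicOpen_of_isRatio {n : ℕ} {f g : Γ(V.left, ⊤)} (hf : GLinSh.HasWeight A.chart n f)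
    (hg : GLinSh.HasWeight A.chart n g) {W : X.left.Opens} (hW : W ≤ nvOpen π f) {h : Γ(X.left, W)}
    (hh : IsRatio (π := π) W f g h) : X.left.basicOpen h = W ⊓ nvOpen π g := by
  ext x
  by_cases hxW : x ∈ W
  swap
  · exact iff_of_false (fun h' => hxW (X.left.basicOpen_le h h')) fun h' => hxW h'.1
  obtain ⟨U, hxU, y, hy⟩ := A.cover x
  obtain ⟨c, hc⟩ := hf U y hy
  obtain ⟨d, hd⟩ := hg U y hy
  let r := (homOfLE (inf_le_right : W ⊓ U ≤ U)).op
  let r' := (homOfLE (inf_le_left : W ⊓ U ≤ W)).op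
  have hdc : X.left.presheaf.map r d = X.left.presheaf.map r' h * X.left.presheaf.map r c := by
    refine injective_embSec A hf (inf_le_left.trans hW) ?_
    have hy' : IsUnit (V.left.presheaf.map (homOfLE (inf_le_left.trans (π.left.preimage_mono inf_le_right) :
          π.left ⁻¹ᵁ (W ⊓ U) ⊓ V.left.basicOpen f ≤ π.left ⁻¹ᵁ U)).op y ^ n) := by
      have h1 := isUnit_resF (π := π) (W ⊓ U) f
      have := congrArg (V.left.presheaf.map (homOfLE (inf_le_left.trans (π.left.preimage_mono inf_le_right) :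
          π.left ⁻¹ᵁ (W ⊓ U) ⊓ V.left.basicOpen f ≤ π.left ⁻¹ᵁ U)).op) hc
      rw [map_mul, map_pow, res_res] at this
      rw [show resF π (W ⊓ U) f f = _ from this] at h1
      exact (IsUnit.mul_iff.1 h1).2
    refine hy'.mul_left_injective ?_
    have h2 := IsRatio.res (inf_le_left : W ⊓ U ≤ W) hh
    unfold IsRatio at h2
    have e : ∀ (t : Γ(V.left, ⊤)) (b : Γ(X.left, U)), GLinSh.resTop π U t = π.left.app U b * y ^ n →
        resF π (W ⊓ U) f t = embSec π (W ⊓ U) f (X.left.presheaf.map r b) *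
          V.left.presheaf.map (homOfLE (inf_le_left.trans (π.left.preimage_mono inf_le_right) :
            π.left ⁻¹ᵁ (W ⊓ U) ⊓ V.left.basicOpen f ≤ π.left ⁻¹ᵁ U)).op y ^ n := by
      intro t b hb
      have := congrArg (V.left.presheaf.map (homOfLE (inf_le_left.trans (π.left.preimage_mono inf_le_right) :
            π.left ⁻¹ᵁ (W ⊓ U) ⊓ V.left.basicOpen f ≤ π.left ⁻¹ᵁ U)).op) hb
      rw [map_mul, map_pow, res_res, Scheme.Hom.app_eq_appLE, res_appLE] at this
      rw [appLE_res]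
      exact this
    rw [e f c hc, e g d hd] at h2
    show embSec π (W ⊓ U) f _ * _ = embSec π (W ⊓ U) f _ * _
    rw [map_mul, _root_.mul_assoc]
    exact h2.symm
  have h3 := congrArg (fun t => x ∈ X.left.basicOpen t) hdc
  simp only [r, r', Scheme.basicOpen_mul, Scheme.basicOpen_res, Opens.mem_inf, hxW, hxU, true_and, eq_iff_iff] at h3
  have h1 := SetLike.ext_iff.1 (nvOpen_inf A hf hy hc) x
  have h2 := SetLike.ext_iff.1 (nvOpen_inf A hg hy hd) x
  simp only [Opens.mem_inf, hxU, and_true] at h1 h2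
  show x ∈ X.left.basicOpen h ↔ x ∈ W ⊓ nvOpen π g
  rw [Opens.mem_inf, h2, h3, ← h1]
  exact ⟨fun hxh => ⟨hxW, hxh, hW hxW⟩, fun h' => h'.2.1⟩

theorem isAffineOpen_nvOpen_inf {n m : ℕ} {f g : Γ(V.left, ⊤)} (hf : GLinSh.HasWeight A.chart n f) (hn : 0 < n)
    (hg : GLinSh.HasWeight A.chart m g) (haff : IsAffineOpen (nvOpen π f)) :
    IsAffineOpen (nvOpen π f ⊓ nvOpen π g) := by
  rcases Nat.eq_zero_or_pos m with rfl | hm
  · obtain ⟨h, hh⟩ := exists_isRatio A (f := f) (g := f * g) hf (by simpa using hasWeight_mul A hf hg) le_rfl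
    have h1 := basicOpen_of_isRatio A hf (g := f * g) (by simpa using hasWeight_mul A hf hg) le_rfl hh
    rw [nvOpen_mul A hf hg, ← inf_assoc, inf_idem] at h1
    exact h1 ▸ haff.basicOpen h
  · have hf' := hasWeight_pow A hf m
    have hg' : GLinSh.HasWeight A.chart (m * n) (g ^ n) := Nat.mul_comm n m ▸ hasWeight_pow A hg n
    obtain ⟨h, hh⟩ := exists_isRatio A hf' hg' (nvOpen_pow A hf hm).ge
    have h1 := basicOpen_of_isRatio A hf' hg' (nvOpen_pow A hf hm).ge hh
    rw [nvOpen_pow A hg hn] at h1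
    exact h1 ▸ haff.basicOpen h

end

end Groth.Agent.H20SS
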