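import Groth.Agent.H20SS.Weight
import Groth.Agent.H20GQ.Orbit

/-!
Invariant sections of a linearised line bundle: saturation of the loci, invariance of ratios, extension.
-/

set_option autoImplicit false
set_option linter.style.haveILetI false
set_option linter.unusedSectionVars false
set_option backward.isDefEq.respectTransparency false

universe u

open CategoryTheory CategoryTheory.Limits MonoidalCategory CartesianMonoidalCategory MonObj GrpObj AlgebraicGeometry
  Opposite TopologicalSpace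

namespace Groth.Agent.H20SS

noncomputable section

variable {S : Scheme.{u}} {G X : Over S} [GrpObj G] {a : AlgGrp.Action G X} (B : GLinSh.LinBun G a)

theorem isInvSection_one : B.IsInvSection 0 1 :=
  ⟨hasWeight_one B.atlas, by unfold GLinSh.IsInvFn; rw [map_one, map_one]⟩

variable {B}

theorem isInvSection_zero (n : ℕ) : B.IsInvSection n 0 :=
  ⟨hasWeight_zero B.atlas n, by unfold GLinSh.IsInvFn; rw [map_zero, map_zero]⟩

theorem isInvSection_add {n : ℕ} {f g : Γ(B.V.left, ⊤)} (hf : B.IsInvSection n f) (hg : B.IsInvSection n g) :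
    B.IsInvSection n (f + g) :=
  ⟨hasWeight_add B.atlas hf.1 hg.1, by
    have h1 := hf.2; have h2 := hg.2
    unfold GLinSh.IsInvFn at h1 h2 ⊢; rw [map_add, map_add, h1, h2]⟩

theorem isInvSection_neg {n : ℕ} {f : Γ(B.V.left, ⊤)} (hf : B.IsInvSection n f) : B.IsInvSection n (-f) :=
  ⟨hasWeight_neg B.atlas hf.1, by
    have h1 := hf.2
    unfold GLinSh.IsInvFn at h1 ⊢; rw [map_neg, map_neg, h1]⟩

theorem isInvSection_mul {n m : ℕ} {f g : Γ(B.V.left, ⊤)} (hf : B.IsInvSection n f) (hg : B.IsInvSection m g) :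
    B.IsInvSection (n + m) (f * g) :=
  ⟨hasWeight_mul B.atlas hf.1 hg.1, by
    have h1 := hf.2; have h2 := hg.2
    unfold GLinSh.IsInvFn at h1 h2 ⊢; rw [map_mul, map_mul, h1, h2]⟩

theorem isInvSection_pow {n : ℕ} {f : Γ(B.V.left, ⊤)} (hf : B.IsInvSection n f) (m : ℕ) :
    B.IsInvSection (m * n) (f ^ m) :=
  ⟨hasWeight_pow B.atlas hf.1 m, by
    have h1 := hf.2
    unfold GLinSh.IsInvFn at h1 ⊢; rw [map_pow, map_pow, h1]⟩

theorem isInvSection_sum {J : Type*} {n : ℕ} (s : Finset J) {f : J → Γ(B.V.left, ⊤)}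
    (hf : ∀ i ∈ s, B.IsInvSection n (f i)) : B.IsInvSection n (∑ i ∈ s, f i) := by
  classical
  induction s using Finset.induction_on with
  | empty => exact isInvSection_zero n
  | insert i s hi ih =>
    rw [Finset.sum_insert hi]
    exact isInvSection_add (hf i (Finset.mem_insert_self i s)) (ih fun j hj => hf j (Finset.mem_insert_of_mem hj))

variable (B) in
/-- Scalars from the base, as functions on the total space. -/
abbrev scalar (r : Γ(S, ⊤)) : Γ(B.V.left, ⊤) := B.V.hom.appTop r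

variable (B) in
theorem scalar_eq (r : Γ(S, ⊤)) : scalar B r = B.π.left.appTop (X.hom.appTop r) := by
  rw [scalar, ← CommRingCat.comp_apply, ← Scheme.Hom.comp_appTop, Over.w]

variable (B) in
theorem isInvSection_scalar (r : Γ(S, ⊤)) : B.IsInvSection 0 (scalar B r) := by
  refine ⟨?_, ?_⟩
  · rw [scalar_eq]; exact hasWeight_pullback B.atlas _
  · unfold GLinSh.IsInvFn scalar
    rw [← CommRingCat.comp_apply, ← Scheme.Hom.comp_appTop, ← CommRingCat.comp_apply, ← Scheme.Hom.comp_appTop,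
      Over.w, Over.w]

theorem isInvSection_scalar_mul {n : ℕ} (r : Γ(S, ⊤)) {f : Γ(B.V.left, ⊤)} (hf : B.IsInvSection n f) :
    B.IsInvSection n (scalar B r * f) := by
  have h := isInvSection_mul (isInvSection_scalar B r) hf
  rwa [Nat.zero_add] at h

theorem act_one' {Y : Over S} (b : AlgGrp.Action G Y) {T : Over S} (x : T ⟶ Y) :
    lift (1 : T ⟶ G) x ≫ b.act = x := by
  rw [Hom.one_def, ← lift_whiskerRight, Category.assoc, b.one_act, lift_leftUnitor_hom]

theorem act_mul' {Y : Over S} (b : AlgGrp.Action G Y) {T : Over S} (g h : T ⟶ G) (x : T ⟶ Y) :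
    lift (g * h) x ≫ b.act = lift g (lift h x ≫ b.act) ≫ b.act := by
  rw [Hom.mul_def, ← lift_whiskerRight, Category.assoc, b.mul_act, lift_lift_associator_hom_assoc,
    lift_whiskerLeft_assoc]

/-- `(g, y) ↦ (g, g y)`. -/
def actIso {Y : Over S} (b : AlgGrp.Action G Y) : G ⊗ Y ≅ G ⊗ Y where
  hom := lift (fst G Y) b.act
  inv := lift (fst G Y) (lift (fst G Y)⁻¹ (snd G Y) ≫ b.act)
  hom_inv_id := CartesianMonoidalCategory.hom_ext _ _ (by simp) (by
    simp only [Category.assoc, lift_snd, comp_lift_assoc, GrpObj.comp_inv, lift_fst, Category.id_comp]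
    conv_lhs => arg 1; arg 2; rw [show b.act = lift (fst G Y) (snd G Y) ≫ b.act by simp]
    rw [← act_mul', inv_mul_cancel, act_one'])
  inv_hom_id := CartesianMonoidalCategory.hom_ext _ _ (by simp) (by
    simp only [Category.assoc, lift_snd, Category.id_comp]
    conv_lhs => arg 2; rw [show b.act = lift (fst G Y) (snd G Y) ≫ b.act by simp]
    rw [← Category.assoc, comp_lift, lift_fst, lift_snd, ← act_mul', mul_inv_cancel, act_one'])

theorem actIso_hom_snd {Y : Over S} (b : AlgGrp.Action G Y) : (actIso b).hom ≫ snd G Y = b.act := lift_snd _ _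

theorem actIso_inv_act {Y : Over S} (b : AlgGrp.Action G Y) : (actIso b).inv ≫ b.act = snd G Y :=
  (Iso.inv_comp_eq _).2 (actIso_hom_snd b).symm

theorem actIso_hom_natural : (actIso B.lift).hom ≫ (G ◁ B.π) = (G ◁ B.π) ≫ (actIso a).hom :=
  CartesianMonoidalCategory.hom_ext _ _ (by simp [actIso]) (by simp [actIso, B.lift_π])

theorem actIso_inv_natural : (G ◁ B.π) ≫ (actIso a).inv = (actIso B.lift).inv ≫ (G ◁ B.π) := by
  rw [Iso.eq_inv_comp, ← Category.assoc, actIso_hom_natural, Category.assoc, Iso.hom_inv_id, Category.comp_id]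

variable (B) in
theorem isPullback_act : IsPullback B.lift.act.left (G ◁ B.π).left B.π.left a.act.left := by
  refine (H20GQ.isPullback_whiskerLeft B.π G).of_iso ((Over.forget S).mapIso (actIso B.lift).symm) (Iso.refl _)
    ((Over.forget S).mapIso (actIso a).symm) (Iso.refl _) ?_ ?_ ?_ ?_
  · show (snd G B.V).left ≫ 𝟙 _ = (actIso B.lift).inv.left ≫ B.lift.act.left
    rw [Category.comp_id, ← Over.comp_left, actIso_inv_act]
  · show (G ◁ B.π).left ≫ (actIso a).inv.left = (actIso B.lift).inv.left ≫ (G ◁ B.π).left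
    rw [← Over.comp_left, ← Over.comp_left, actIso_inv_natural]
  · show B.π.left ≫ 𝟙 _ = 𝟙 _ ≫ B.π.left
    simp
  · show (snd G X).left ≫ 𝟙 _ = (actIso a).inv.left ≫ a.act.left
    rw [Category.comp_id, ← Over.comp_left, actIso_inv_act]

/-- The non-vanishing locus of an invariant section is saturated. -/
theorem preimage_nvOpen {n : ℕ} {f : Γ(B.V.left, ⊤)} (hf : B.IsInvSection n f) :
    a.act.left ⁻¹ᵁ nvOpen B.π f = (snd G X).left ⁻¹ᵁ nvOpen B.π f := by
  have hnv := coe_nvOpen B.atlas hf.1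
  have hb : B.lift.act.left ⁻¹ᵁ B.V.left.basicOpen f = (snd G B.V).left ⁻¹ᵁ B.V.left.basicOpen f := by
    rw [Scheme.preimage_basicOpen_top, Scheme.preimage_basicOpen_top]
    exact congrArg _ hf.2
  ext w
  constructor
  · intro hw
    obtain ⟨v, hv, hvw⟩ := hnv.le hw
    obtain ⟨z, hz1, hz2⟩ := Scheme.exists_preimage_of_isPullback (isPullback_act B) v w hvw
    refine hnv.ge ⟨(snd G B.V).left z, ?_, ?_⟩
    · exact hb.le (show B.lift.act.left z ∈ B.V.left.basicOpen f from hz1.symm ▸ hv)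
    · rw [← hz2]
      show ((snd G B.V).left ≫ B.π.left) z = ((G ◁ B.π).left ≫ (snd G X).left) z
      rw [← Over.comp_left, ← Over.comp_left, whiskerLeft_snd]
  · intro hw
    obtain ⟨v, hv, hvw⟩ := hnv.le hw
    obtain ⟨z, hz1, hz2⟩ := Scheme.exists_preimage_of_isPullback (H20GQ.isPullback_whiskerLeft B.π G) v w hvw
    refine hnv.ge ⟨B.lift.act.left z, ?_, ?_⟩
    · exact hb.ge (show (snd G B.V).left z ∈ B.V.left.basicOpen f from hz1.symm ▸ hv)
    · rw [← hz2]
      show (B.lift.act.left ≫ B.π.left) z = ((G ◁ B.π).left ≫ a.act.left) z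
      rw [← Over.comp_left, ← Over.comp_left, B.lift_π]

variable (a) in
/-- A function on a saturated open is invariant. -/
def IsInvOn (W : X.left.Opens) (h : Γ(X.left, W)) : Prop :=
  ∀ (hW : (snd G X).left ⁻¹ᵁ W ≤ a.act.left ⁻¹ᵁ W),
    a.act.left.appLE W _ hW h = (snd G X).left.appLE W ((snd G X).left ⁻¹ᵁ W) le_rfl h

theorem whiskerPreimage_le {W : X.left.Opens} :
    (G ◁ B.π).left ⁻¹ᵁ ((snd G X).left ⁻¹ᵁ W) = (snd G B.V).left ⁻¹ᵁ (B.π.left ⁻¹ᵁ W) := by
  rw [← Scheme.Hom.comp_preimage, ← Scheme.Hom.comp_preimage, ← Over.comp_left, ← Over.comp_left, whiskerLeft_snd]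

/-- Pullback along `G ×ₖ π` is injective over the non-vanishing locus. -/
theorem injective_whisker {n : ℕ} {f : Γ(B.V.left, ⊤)} (hf : GLinSh.HasWeight B.atlas.chart n f) {W : X.left.Opens}
    (hW : W ≤ nvOpen B.π f) :
    Function.Injective ((G ◁ B.π).left.appLE ((snd G X).left ⁻¹ᵁ W)
      ((snd G B.V).left ⁻¹ᵁ (B.π.left ⁻¹ᵁ W ⊓ B.V.left.basicOpen f))
      (fun _ hz => whiskerPreimage_le.ge hz.1)) := by
  refine injective_appLE_of_sections _ _ _ _ fun w hw => ?_
  obtain ⟨W₀, hxW₀, hle, σ, hσ, hσf⟩ := exists_section_mem_basicOpen B.atlas hf hW (x := (snd G X).left w) hw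
  let O := (snd G X).left ⁻¹ᵁ W₀
  let P : Over S := Over.mk (O.ι ≫ (G ⊗ X).hom)
  let j : P ⟶ G ⊗ X := Over.homMk O.ι rfl
  have hr : Set.range (j ≫ snd G X).left ⊆ Set.range W₀.ι := by
    rintro _ ⟨z, rfl⟩
    rw [Scheme.Opens.range_ι]
    exact z.2
  let t : P ⟶ Over.mk (W₀.ι ≫ X.hom) := Over.homMk (IsOpenImmersion.lift W₀.ι _ hr) (by
    show _ ≫ W₀.ι ≫ X.hom = _
    rw [IsOpenImmersion.lift_fac_assoc, Over.w])
  have ht : t ≫ Over.homMk W₀.ι rfl = j ≫ snd G X := Over.OverMorphism.ext (IsOpenImmersion.lift_fac _ _ hr)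
  let s : P ⟶ G ⊗ B.V := lift (j ≫ fst G X) (t ≫ σ)
  have hs : s ≫ (G ◁ B.π) = j := by
    apply CartesianMonoidalCategory.hom_ext
    · simp [s]
    · simp only [s, Category.assoc, whiskerLeft_snd, lift_snd_assoc]
      rw [hσ, ht]
  refine ⟨O, hxW₀, (snd G X).left.preimage_mono hle, s.left,
    congrArg (fun m : P ⟶ G ⊗ X => m.left) hs, fun z => ?_⟩
  have e : (snd G B.V).left (s.left z) = σ.left (t.left z) := by
    show (s.left ≫ (snd G B.V).left) z = (t.left ≫ σ.left) z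
    rw [← Over.comp_left, ← Over.comp_left, lift_snd]
  refine ⟨?_, ?_⟩
  · show B.π.left ((snd G B.V).left (s.left z)) ∈ W
    rw [e, ← Scheme.Hom.comp_apply σ.left B.π.left, ← Over.comp_left, hσ]
    exact hle (t.left z).2
  · show (snd G B.V).left (s.left z) ∈ B.V.left.basicOpen f
    rw [e]
    exact hσf _

theorem appLE_congr_res {P C : Scheme.{u}} (m₁ m₂ : P ⟶ C) {U : C.Opens} {D : P.Opens}
    (e₁ : D ≤ m₁ ⁻¹ᵁ U) (e₂ : D ≤ m₂ ⁻¹ᵁ U) (t : Γ(C, ⊤)) (ht : m₁.appTop t = m₂.appTop t) :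
    m₁.appLE U D e₁ (C.presheaf.map (homOfLE le_top).op t) = m₂.appLE U D e₂ (C.presheaf.map (homOfLE le_top).op t) := by
  rw [appLE_res, appLE_res]
  have := congrArg (P.presheaf.map (homOfLE (le_top : D ≤ ⊤)).op) ht
  rw [Scheme.Hom.appTop, Scheme.Hom.app_eq_appLE, Scheme.Hom.appTop, Scheme.Hom.app_eq_appLE] at this
  exact (res_appLE m₁ _ le_top t).symm.trans (this.trans (res_appLE m₂ _ le_top t))

theorem inv_ratio_aux {P GX V' X' : Scheme.{u}} (Φ p : P ⟶ V') (q : P ⟶ GX) (σ p₂ : GX ⟶ X') (π : V' ⟶ X')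
    (hΦ : q ≫ σ = Φ ≫ π) (hp : q ≫ p₂ = p ≫ π) {W : X'.Opens} {E : V'.Opens} {O : GX.Opens} {D : P.Opens}
    (hE : E ≤ π ⁻¹ᵁ W) (hOσ : O ≤ σ ⁻¹ᵁ W) (hO₂ : O ≤ p₂ ⁻¹ᵁ W) (hD : D ≤ q ⁻¹ᵁ O) (hDΦ : D ≤ Φ ⁻¹ᵁ E)
    (hDp : D ≤ p ⁻¹ᵁ E) (hinj : Function.Injective (q.appLE O D hD)) (f g : Γ(V', E)) (h : Γ(X', W))
    (hu : IsUnit (p.appLE E D hDp f)) (hf : Φ.appLE E D hDΦ f = p.appLE E D hDp f)
    (hg : Φ.appLE E D hDΦ g = p.appLE E D hDp g) (hh : π.appLE W E hE h * f = g) :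
    σ.appLE W O hOσ h = p₂.appLE W O hO₂ h := by
  refine hinj (hu.mul_left_injective ?_)
  have e1 : q.appLE O D hD (σ.appLE W O hOσ h) = Φ.appLE E D hDΦ (π.appLE W E hE h) := by
    rw [appLE_appLE, appLE_appLE]; exact appLE_congr_hom hΦ _ h
  have e2 : q.appLE O D hD (p₂.appLE W O hO₂ h) = p.appLE E D hDp (π.appLE W E hE h) := by
    rw [appLE_appLE, appLE_appLE]; exact appLE_congr_hom hp _ h
  show _ * _ = _ * _
  rw [e1, e2]
  conv_lhs => arg 2; rw [← hf]
  rw [← map_mul, ← map_mul, hh, hg]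

/-- Ratios of invariant sections are invariant. -/
theorem isInvOn_of_isRatio {n : ℕ} {f g : Γ(B.V.left, ⊤)} (hf : B.IsInvSection n f) (hg : GLinSh.IsInvFn B.lift g)
    {W : X.left.Opens} (hW : W ≤ nvOpen B.π f) {h : Γ(X.left, W)} (hh : IsRatio (π := B.π) W f g h) :
    IsInvOn a W h := by
  intro hle
  have hb : B.lift.act.left ⁻¹ᵁ B.V.left.basicOpen f = (snd G B.V).left ⁻¹ᵁ B.V.left.basicOpen f := by
    rw [Scheme.preimage_basicOpen_top, Scheme.preimage_basicOpen_top]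
    exact congrArg _ hf.2
  have hDact : (snd G B.V).left ⁻¹ᵁ (B.π.left ⁻¹ᵁ W ⊓ B.V.left.basicOpen f) ≤
      B.lift.act.left ⁻¹ᵁ (B.π.left ⁻¹ᵁ W ⊓ B.V.left.basicOpen f) := by
    intro z hz
    refine ⟨?_, hb.ge hz.2⟩
    show (B.lift.act.left ≫ B.π.left) z ∈ W
    rw [← Over.comp_left, B.lift_π, Over.comp_left, Scheme.Hom.comp_apply]
    refine hle (show (snd G X).left ((G ◁ B.π).left z) ∈ W from ?_)
    have h3 : (snd G X).left ((G ◁ B.π).left z) = B.π.left ((snd G B.V).left z) := by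
      rw [← Scheme.Hom.comp_apply, ← Scheme.Hom.comp_apply, ← Over.comp_left, ← Over.comp_left, whiskerLeft_snd]
    rw [h3]
    exact hz.1
  have hΦ : (G ◁ B.π).left ≫ a.act.left = B.lift.act.left ≫ B.π.left := by
    rw [← Over.comp_left, ← Over.comp_left, B.lift_π]
  have hp : (G ◁ B.π).left ≫ (snd G X).left = (snd G B.V).left ≫ B.π.left := by
    rw [← Over.comp_left, ← Over.comp_left, whiskerLeft_snd]
  have hinj := injective_whisker (B := B) hf.1 hW
  have hu := (isUnit_resF (π := B.π) W f).map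
    ((snd G B.V).left.appLE _ ((snd G B.V).left ⁻¹ᵁ (B.π.left ⁻¹ᵁ W ⊓ B.V.left.basicOpen f)) le_rfl).hom
  have hf' := appLE_congr_res B.lift.act.left (snd G B.V).left (U := B.π.left ⁻¹ᵁ W ⊓ B.V.left.basicOpen f)
    hDact le_rfl f hf.2
  have hg' := appLE_congr_res B.lift.act.left (snd G B.V).left (U := B.π.left ⁻¹ᵁ W ⊓ B.V.left.basicOpen f)
    hDact le_rfl g hg
  exact inv_ratio_aux B.lift.act.left (snd G B.V).left (G ◁ B.π).left a.act.left (snd G X).left B.π.left
    hΦ hp (E := B.π.left ⁻¹ᵁ W ⊓ B.V.left.basicOpen f) inf_le_left hle le_rfl _ hDact le_rfl hinj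
    _ _ h hu hf' hg' hh

end

end Groth.Agent.H20SS
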