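import Groth.Agent.H20SS.Ring
import Groth.Agent.H20LRQ.Affine
import Groth.Agent.H20LRQ.Orbit
import Groth.Agent.H20GQ.Univ
import Mathlib.AlgebraicGeometry.ProjectiveSpectrum.Basic
import Mathlib.AlgebraicGeometry.Morphisms.IsIso

/-!
The quotient of an affine non-vanishing locus is the spectrum of the homogeneous localisation.
-/

set_option autoImplicit false
set_option linter.style.haveILetI false
set_option linter.unusedSectionVars false
set_option backward.isDefEq.respectTransparency false

universe u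

open CategoryTheory CategoryTheory.Limits MonoidalCategory CartesianMonoidalCategory MonObj GrpObj AlgebraicGeometry
  Opposite TopologicalSpace HomogeneousLocalization
open scoped TensorProduct

namespace Groth.Agent.H20SS

noncomputable section

variable {k : Type u} [Field k] {G X : Over (Spec (CommRingCat.of k))} [GrpObj G] {a : AlgGrp.Action G X}
  {B : GLinSh.LinBun G a}

/-- A scalar of the field as a function on the base. -/
abbrev cst : k →+* Γ(Spec (CommRingCat.of k), ⊤) := (Scheme.ΓSpecIso (CommRingCat.of k)).inv.hom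

variable (X) in
/-- The scalars as functions on an open of the scheme. -/
abbrev scal (W : X.left.Opens) : k →+* Γ(X.left, W) :=
  (X.left.presheaf.map (homOfLE (le_top : W ≤ ⊤)).op).hom.comp (X.hom.appTop.hom.comp cst)

variable (B) in
/-- The scalars in weight zero. -/
def scalHom : k →+* grade B 0 where
  toFun c := ⟨el (isInvSection_scalar B (cst c)), el_mem _⟩
  map_one' := Subtype.ext (Subtype.ext (by
    show Polynomial.monomial 0 (scalar B (cst 1)) = 1
    rw [map_one, scalar, map_one]
    exact Polynomial.monomial_zero_one))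
  map_mul' c d := Subtype.ext (Subtype.ext (by
    show Polynomial.monomial 0 (scalar B (cst (c * d))) =
      Polynomial.monomial 0 (scalar B (cst c)) * Polynomial.monomial 0 (scalar B (cst d))
    rw [Polynomial.monomial_mul_monomial, map_mul, scalar, map_mul]))
  map_zero' := Subtype.ext (Subtype.ext (by
    show Polynomial.monomial 0 (scalar B (cst 0)) = 0
    rw [map_zero, scalar, map_zero, map_zero]))
  map_add' c d := Subtype.ext (Subtype.ext (by
    show Polynomial.monomial 0 (scalar B (cst (c + d))) =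
      Polynomial.monomial 0 (scalar B (cst c)) + Polynomial.monomial 0 (scalar B (cst d))
    rw [map_add, scalar, map_add, map_add]))

instance awayAlgebra (x : invRing B) : Algebra k (Away (grade B) x) :=
  ((fromZeroRingHom (grade B) _).comp (scalHom B)).toAlgebra

theorem algebraMap_away (x : invRing B) :
    algebraMap k (Away (grade B) x) = (fromZeroRingHom (grade B) _).comp (scalHom B) := rfl

variable {n : ℕ} {f : Γ(B.V.left, ⊤)} (hf : B.IsInvSection n f)

theorem awayHom_algebraMap (c : k) :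
    awayHom hf (algebraMap k (Away (grade B) (el hf)) c) = scal X (nvOpen B.π f) c := by
  refine injective_embSec B.atlas hf.1 le_rfl ?_
  have h1 : awayEval hf (algebraMap k (Away (grade B) (el hf)) c) = evalF f (el (isInvSection_scalar B (cst c))) := by
    rw [awayEval, RingHom.comp_apply, HomogeneousLocalization.algebraMap_apply,
      ← IsLocalization.Away.lift_eq (S := Localization.Away (el hf)) (g := evalF f) (el hf)
        (by rw [evalF_el]; exact isUnit_resF _ f) (el (isInvSection_scalar B (cst c)))]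
    congr 1
  rw [embSec_awayHom, h1, evalF_el, scalar_eq, Scheme.Hom.appTop, Scheme.Hom.app_eq_appLE]
  unfold scal resF embSec
  rw [RingHom.comp_apply, appLE_res]
  exact res_appLE _ _ le_top _

theorem ι_hom_eq {W : X.left.Opens} (hW : IsAffineOpen W) :
    W.ι ≫ X.hom = hW.isoSpec.hom ≫ Spec.map (CommRingCat.ofHom (scal X W)) := by
  haveI : IsAffine W.toScheme := hW
  refine ext_of_isAffine ?_
  rw [Scheme.Hom.comp_appTop, Scheme.Hom.comp_appTop, hW.isoSpec_hom_appTop, Scheme.Opens.ι_appTop]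
  refine CommRingCat.hom_ext (RingHom.ext fun t => ?_)
  obtain ⟨c, rfl⟩ := (ConcreteCategory.bijective_of_isIso (Scheme.ΓSpecIso (CommRingCat.of k)).inv).2 t
  have e : (Scheme.ΓSpecIso (CommRingCat.of k)).inv ≫ (Spec.map (CommRingCat.ofHom (scal X W))).appTop =
      CommRingCat.ofHom (scal X W) ≫ (Scheme.ΓSpecIso _).inv := (Scheme.ΓSpecIso_inv_naturality _).symm
  have e2 := congrArg (fun m : CommRingCat.of k ⟶ _ => m.hom c) e
  simp only [CommRingCat.comp_apply] at e2 ⊢
  refine Eq.trans ?_ (congrArg (fun t => W.topIso.inv ((Scheme.ΓSpecIso Γ(X.left, W)).hom t)) e2).symm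
  show _ = W.topIso.inv ((Scheme.ΓSpecIso Γ(X.left, W)).hom ((Scheme.ΓSpecIso Γ(X.left, W)).inv
    (X.left.presheaf.map (homOfLE le_top).op (X.hom.appTop (cst c)))))
  rw [Iso.inv_hom_id_apply]
  rw [Scheme.Opens.topIso_inv]
  exact (res_res _ _ _).symm

variable (hn : 0 < n) (haff : IsAffineOpen (nvOpen B.π f))

/-- The chart of the quotient map. -/
def chartSpec : (nvOpen B.π f).toScheme ⟶ Spec (CommRingCat.of (Away (grade B) (el hf))) :=
  haff.isoSpec.hom ≫ Spec.map (CommRingCat.ofHom (awayHom hf))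

theorem chartSpec_over :
    chartSpec hf haff ≫ Spec.map (CommRingCat.ofHom (algebraMap k (Away (grade B) (el hf)))) =
      (nvOpen B.π f).ι ≫ X.hom := by
  rw [ι_hom_eq haff, chartSpec, Category.assoc, ← Spec.map_comp, ← CommRingCat.ofHom_comp]
  congr 2
  exact congrArg CommRingCat.ofHom (RingHom.ext fun c => awayHom_algebraMap hf c)

/-- Invariance of a function on an open, read on an open immersion onto it. -/
theorem isInvOn_iff {W : X.left.Opens} (hW : (snd G X).left ⁻¹ᵁ W ≤ a.act.left ⁻¹ᵁ W)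
    {P : Over (Spec (CommRingCat.of k))} (i : P ⟶ X) [IsOpenImmersion i.left]
    (hi : Set.range i.left = W) (aP : AlgGrp.Action G P) (haP : aP.act ≫ i = (G ◁ i) ≫ a.act)
    (b : Γ(X.left, W)) (e : ⊤ ≤ i.left ⁻¹ᵁ W) :
    IsInvOn a W b ↔ aP.act.left.appTop (i.left.appLE W ⊤ e b) = (snd G P).left.appTop (i.left.appLE W ⊤ e b) := by
  set O := (snd G X).left ⁻¹ᵁ W with hO
  haveI : IsOpenImmersion (G ◁ i).left :=
    MorphismProperty.of_isPullback (P := @IsOpenImmersion) (H20GQ.isPullback_whiskerLeft i G) inferInstance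
  have hr : Set.range (G ◁ i).left = O := by
    refine Set.Subset.antisymm ?_ fun w hw => ?_
    · rintro _ ⟨z, rfl⟩
      show ((G ◁ i).left ≫ (snd G X).left) z ∈ W
      rw [← Over.comp_left, whiskerLeft_snd, Over.comp_left]
      exact hi.le ⟨_, rfl⟩
    · obtain ⟨p, hp⟩ := hi.ge hw
      obtain ⟨z, -, hz⟩ := Scheme.exists_preimage_of_isPullback (H20GQ.isPullback_whiskerLeft i G) p w hp
      exact ⟨z, hz⟩
  have hD : (⊤ : (G ⊗ P).left.Opens) ≤ (G ◁ i).left ⁻¹ᵁ O := fun z _ => hr.le ⟨z, rfl⟩
  have hinj : Function.Injective ((G ◁ i).left.appLE O ⊤ hD) := by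
    refine injective_appLE_of_sections _ _ _ _ fun w hw => ⟨O, hw, le_rfl, ?_⟩
    have hr' : Set.range O.ι ⊆ Set.range (G ◁ i).left := by rw [hr, Scheme.Opens.range_ι]
    exact ⟨IsOpenImmersion.lift (G ◁ i).left O.ι hr', IsOpenImmersion.lift_fac _ _ _, fun _ => trivial⟩
  have e1 : (G ◁ i).left.appLE O ⊤ hD (a.act.left.appLE W O hW b) = aP.act.left.appTop (i.left.appLE W ⊤ e b) := by
    rw [appLE_appLE, Scheme.Hom.appTop, Scheme.Hom.app_eq_appLE]
    refine Eq.trans ?_ (appLE_appLE _ _ _ _ b).symm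
    exact appLE_congr_hom (by rw [← Over.comp_left, ← Over.comp_left, haP]) _ b
  have e2 : (G ◁ i).left.appLE O ⊤ hD ((snd G X).left.appLE W O le_rfl b) =
      (snd G P).left.appTop (i.left.appLE W ⊤ e b) := by
    rw [appLE_appLE, Scheme.Hom.appTop, Scheme.Hom.app_eq_appLE]
    refine Eq.trans ?_ (appLE_appLE _ _ _ _ b).symm
    exact appLE_congr_hom (by rw [← Over.comp_left, ← Over.comp_left, whiskerLeft_snd]) _ b
  rw [← e1, ← e2, hinj.eq_iff]
  exact ⟨fun h => h hW, fun h _ => h⟩

variable [CharZero k] (hG : Red.IsReductive G) [CompactSpace X.left] [QuasiSeparatedSpace X.left]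

include hn haff hG in
/-- An open immersion onto the affine locus of an invariant section, with the induced action, has the
spectrum of the homogeneous localisation as quotient. -/
theorem chart_quot {P Q : Over (Spec (CommRingCat.of k))} (i : P ⟶ X) [IsOpenImmersion i.left]
    (hi : Set.range i.left = nvOpen B.π f) (aP : AlgGrp.Action G P) (haP : aP.act ≫ i = (G ◁ i) ≫ a.act)
    (gam : P ⟶ Q) (w : Q.left ≅ Spec (CommRingCat.of (Away (grade B) (el hf))))
    (hw : w.hom ≫ Spec.map (CommRingCat.ofHom (algebraMap k (Away (grade B) (el hf)))) = Q.hom)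
    (p : P.left ⟶ (nvOpen B.π f).toScheme) (hp : p ≫ (nvOpen B.π f).ι = i.left)
    (hgam : gam.left ≫ w.hom = p ≫ chartSpec hf haff) :
    GIT.IsUnivCatQuot aP gam ∧ GIT.IsUnivSubmersive gam.left ∧ Function.Surjective gam.left ∧
      (GIT.IsClosedAction aP → GIT.IsUnivGeomQuot aP gam) ∧
      (LocallyOfFiniteType X.hom → LocallyOfFiniteType Q.hom) := by
  haveI : IsAffine G.left := by
    haveI := hG.1
    exact isAffine_of_isAffineHom G.hom
  haveI : QuasiCompact G.hom := by
    haveI := hG.1
    infer_instance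
  obtain ⟨A, _, _, v, _, _⟩ := H20LRQ.exists_grp_model G
  haveI : IsIso p := by
    haveI : IsOpenImmersion p := by
      haveI : IsOpenImmersion (p ≫ (nvOpen B.π f).ι) := hp ▸ inferInstance
      exact IsOpenImmersion.of_comp p (nvOpen B.π f).ι
    haveI : Surjective p := ⟨fun z => by
      obtain ⟨q, hq⟩ := hi.ge z.2
      refine ⟨q, (nvOpen B.π f).ι.isOpenEmbedding.injective ?_⟩
      rw [← Scheme.Hom.comp_apply, hp]
      exact hq⟩
    exact (isIso_iff_isOpenImmersion_and_surjective p).2 ⟨inferInstance, inferInstance⟩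
  letI algB : Algebra k Γ(X.left, (nvOpen B.π f)) := (scal X (nvOpen B.π f)).toAlgebra
  letI algC : Algebra (Away (grade B) (el hf)) Γ(X.left, (nvOpen B.π f)) := (awayHom hf).toAlgebra
  haveI : IsScalarTower k (Away (grade B) (el hf)) Γ(X.left, (nvOpen B.π f)) :=
    IsScalarTower.of_algebraMap_eq fun c => (awayHom_algebraMap hf c).symm
  let u : P ≅ CoactBr.sp k Γ(X.left, (nvOpen B.π f)) := Over.isoMk (asIso p ≪≫ haff.isoSpec) (by
    show (p ≫ haff.isoSpec.hom) ≫ Spec.map (CommRingCat.ofHom (scal X (nvOpen B.π f))) = P.hom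
    rw [Category.assoc, ← ι_hom_eq, ← Category.assoc, hp, Over.w])
  obtain ⟨co, hco, hr⟩ := H20LRQ.exists_coaction_of_action aP v u
  letI := co
  haveI := hco
  obtain ⟨α, hα, h1⟩ := H20Comod.isLinearlyReductive_iff_exists_isIntegral.1
    (H20Red.isLinearlyReductive_of_iso_isReductive hG v)
  have hle : ⊤ ≤ i.left ⁻¹ᵁ (nvOpen B.π f) := fun z _ => hi.le ⟨z, rfl⟩
  have hfn : ∀ b, (H20LRQ.fnMap u).hom b = i.left.appLE (nvOpen B.π f) ⊤ hle b := fun b => by
    rw [H20LRQ.fnMap, CommRingCat.comp_apply,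
      show u.hom.left.appTop = haff.isoSpec.hom.appTop ≫ p.appTop from Scheme.Hom.comp_appTop p haff.isoSpec.hom,
      CommRingCat.comp_apply, haff.isoSpec_hom_appTop, CommRingCat.comp_apply]
    show p.appTop ((nvOpen B.π f).topIso.inv ((Scheme.ΓSpecIso Γ(X.left, nvOpen B.π f)).hom
      ((Scheme.ΓSpecIso Γ(X.left, nvOpen B.π f)).inv b))) = _
    rw [Iso.inv_hom_id_apply,
      ← appLE_congr_hom hp (U := nvOpen B.π f) (O := ⊤) (fun z _ => (p z).2) b, ← appLE_appLE p (nvOpen B.π f).ι (U := nvOpen B.π f) (W := ⊤) (fun z _ => z.2) le_top b,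
      Scheme.Hom.appTop, Scheme.Hom.app_eq_appLE]
    congr 1
    rw [Scheme.Opens.topIso_inv, Scheme.Opens.ι_appLE]
    rfl
  have hiff : ∀ b : Γ(X.left, (nvOpen B.π f)), IsInvOn a (nvOpen B.π f) b ↔
      HopfRep.Comod.coact (k := k) (A := A) b = b ⊗ₜ[k] (1 : A) := fun b => by
    rw [isInvOn_iff (preimage_nvOpen hf).ge i hi aP haP b hle, ← hfn, H20LRQ.invariant_fn_iff aP v u hr]
  have hC : H20LRQ.IsInvRing k A Γ(X.left, (nvOpen B.π f)) (Away (grade B) (el hf)) :=
    ⟨fun z => (hiff _).1 (isInvOn_awayHom hf z), injective_awayHom hf,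
      fun b hb => exists_awayHom_eq hf b ((hiff b).2 hb)⟩
  let e : Q ≅ CoactBr.sp k (Away (grade B) (el hf)) := Over.isoMk w hw
  have he : gam ≫ e.hom = H20LRQ.quotMap (C := Away (grade B) (el hf)) u := Over.OverMorphism.ext (by
    show gam.left ≫ w.hom = (p ≫ haff.isoSpec.hom) ≫ Spec.map (CommRingCat.ofHom (awayHom hf))
    rw [hgam, chartSpec, Category.assoc])
  have h0 := H20LRQ.isUnivCatQuot_quotMap aP v u hr hC hα h1
  have hgami : GIT.IsInvariant aP gam := by
    have h2 : (aP.act ≫ gam) ≫ e.hom = (snd G P ≫ gam) ≫ e.hom := by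
      rw [Category.assoc, Category.assoc, he]
      exact h0.1.1
    have h3 := congrArg (· ≫ e.inv) h2
    simp only [Category.assoc, Iso.hom_inv_id, Category.comp_id] at h3
    exact h3
  have hu : GIT.IsUnivCatQuot aP gam := by
    refine ⟨⟨hgami, fun Z ψ hψ => ?_⟩, fun X' Y' pr φ' g hg hpb a' ha hi' => h0.2 pr φ' (g ≫ e.hom) hg ?_ a' ha hi'⟩
    · obtain ⟨χ, hχ, huniq⟩ := h0.1.2 Z ψ hψ
      refine ⟨e.hom ≫ χ, (Category.assoc _ _ _).symm.trans ((congrArg (· ≫ χ) he).trans hχ), fun χ' hχ' => ?_⟩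
      rw [← huniq (e.inv ≫ χ') (show H20LRQ.quotMap u ≫ e.inv ≫ χ' = ψ by
        rw [← he, Category.assoc, Iso.hom_inv_id_assoc]; exact hχ'), Iso.hom_inv_id_assoc]
    · refine hpb.of_iso (Iso.refl _) (Iso.refl _) (Iso.refl _) e ?_ ?_ ?_ ?_ <;> simp [he]
  haveI : IsIso e.hom.left := inferInstanceAs (IsIso ((Over.forget _).map e.hom))
  haveI : IsIso u.hom.left := inferInstanceAs (IsIso ((Over.forget _).map u.hom))
  have hs : GIT.IsUnivSubmersive gam.left := by
    refine (MorphismProperty.cancel_right_of_respectsIso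
      (MorphismProperty.universally (topologically @Topology.IsQuotientMap)) gam.left e.hom.left).1 ?_
    rw [← Over.comp_left, he]
    exact (MorphismProperty.cancel_left_of_respectsIso
      (MorphismProperty.universally (topologically @Topology.IsQuotientMap)) u.hom.left _).2
      (H20LRQ.isUnivSubmersive_specMap hC hα h1)
  refine ⟨hu, hs, H20GQ.surjective_of_univCatQuot hu, fun hcl => ?_, fun hX => ?_⟩
  · exact (H20GQ.isUnivGeomQuot_iff hu).2
      ⟨hs, H20LRQ.surjective_psiY_of_isClosedAction aP v u hr hC hα h1 hu.1.1 e.hom he hcl⟩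
  · haveI := hX
    haveI : IsIso u.inv.left := inferInstanceAs (IsIso ((Over.forget _).map u.inv))
    haveI : LocallyOfFiniteType P.hom := by rw [← Over.w i]; infer_instance
    have hB : LocallyOfFiniteType (Spec.map (CommRingCat.ofHom (algebraMap k Γ(X.left, (nvOpen B.π f))))) := by
      have : LocallyOfFiniteType (CoactBr.sp k Γ(X.left, (nvOpen B.π f))).hom := by rw [← Over.w u.inv]; infer_instance
      exact this
    haveI : Algebra.FiniteType k Γ(X.left, (nvOpen B.π f)) :=
      RingHom.finiteType_algebraMap.1 ((HasRingHomProperty.Spec_iff (P := @LocallyOfFiniteType)).1 hB)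
    obtain ⟨s, hs'⟩ := H20Comod.exists_finset_invariants_adjoin (R := Γ(X.left, (nvOpen B.π f))) hα h1
    haveI : Algebra.FiniteType k (GLin.invariants k A Γ(X.left, (nvOpen B.π f))) :=
      (Subalgebra.fg_iff_finiteType _).1 ⟨s, hs'.symm⟩
    let θ : Away (grade B) (el hf) →ₐ[k] GLin.invariants k A Γ(X.left, (nvOpen B.π f)) :=
      (IsScalarTower.toAlgHom k _ Γ(X.left, (nvOpen B.π f))).codRestrict _ hC.fixed
    have hθ : Function.Bijective θ :=
      ⟨fun x y hxy => hC.injective (congrArg Subtype.val hxy), fun b => by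
        obtain ⟨c, hc⟩ := hC.surjective b.1 b.2
        exact ⟨c, Subtype.ext hc⟩⟩
    haveI : Algebra.FiniteType k (Away (grade B) (el hf)) :=
      Algebra.FiniteType.equiv inferInstance (AlgEquiv.ofBijective θ hθ).symm
    haveI : LocallyOfFiniteType (CoactBr.sp k (Away (grade B) (el hf))).hom :=
      (HasRingHomProperty.Spec_iff (P := @LocallyOfFiniteType)).2 (RingHom.finiteType_algebraMap.2 inferInstance)
    rw [← Over.w e.hom]
    infer_instance

end

end Groth.Agent.H20SS
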