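import Groth.Agent.H20SS.Quot

/-!
Closed actions on the loci of stable witnesses; the orbit criterion over the stable pieces of the quotient.
-/

set_option autoImplicit false
set_option linter.style.haveILetI false
set_option linter.unusedSectionVars false
set_option backward.isDefEq.respectTransparency false

universe u

open CategoryTheory CategoryTheory.Limits MonoidalCategory CartesianMonoidalCategory MonObj GrpObj AlgebraicGeometry
  Opposite TopologicalSpace
open Groth.Agent.H20GQ (resObj resIncl resHom)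

namespace Groth.Agent.H20SS

noncomputable section

variable {S : Scheme.{u}} {G X : Over S} [GrpObj G] {a : AlgGrp.Action G X}

/-- A restricted action on an open with closed orbits is a closed action. -/
theorem isClosedAction_of_closedOrbitsOn {W : X.left.Opens} {P : Over S} (i : P ⟶ X) [IsOpenImmersion i.left]
    (hi : Set.range i.left ⊆ W) (aP : AlgGrp.Action G P) (haP : aP.act ≫ i = (G ◁ i) ≫ a.act)
    (h : GLinSh.ClosedOrbitsOn a W) : GIT.IsClosedAction aP := by
  intro Ω _ _ T e f
  haveI : IsOpenImmersion (i ▷ T).left :=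
    MorphismProperty.of_isPullback (P := @IsOpenImmersion) (H20GQ.isPullback_whiskerRight i T) inferInstance
  have hc := h Ω T e (f ≫ i) (by rintro _ ⟨t, rfl⟩; exact hi ⟨f.left t, rfl⟩)
  have hW : ∀ z, (fst X T).left ((i ▷ T).left z) ∈ W := fun z => by
    rw [← Scheme.Hom.comp_apply, ← Over.comp_left, whiskerRight_fst, Over.comp_left, Scheme.Hom.comp_apply]
    exact hi ⟨_, rfl⟩
  have hsq : GIT.psi aP f ≫ (i ▷ T) = GIT.psi a (f ≫ i) := by
    apply CartesianMonoidalCategory.hom_ext
    · simp only [GIT.psi, Category.assoc, whiskerRight_fst, lift_fst, lift_fst_assoc]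
      rw [haP, whiskerLeft_comp, Category.assoc]
    · simp [GIT.psi]
  have he : Set.range (GIT.psi aP f).left = (fun z => (⟨(i ▷ T).left z, hW z⟩ : (fst X T).left ⁻¹ᵁ W)) ⁻¹'
      ((fun p : (fst X T).left ⁻¹ᵁ W => (p : (X ⊗ T).left)) ⁻¹' Set.range (GIT.psi a (f ≫ i)).left) := by
    ext z
    constructor
    · rintro ⟨w, rfl⟩
      exact ⟨w, (congrArg (fun m : G ⊗ T ⟶ X ⊗ T => m.left w) hsq).symm⟩
    · rintro ⟨w, hw⟩
      exact ⟨w, (i ▷ T).left.isOpenEmbedding.injective
        ((congrArg (fun m : G ⊗ T ⟶ X ⊗ T => m.left w) hsq).trans hw)⟩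
  rw [he]
  exact hc.preimage ((i ▷ T).left.continuous.subtype_mk hW)

variable {k : Type u} [Field k] {G X : Over (Spec (CommRingCat.of k))} [GrpObj G] {a : AlgGrp.Action G X}
  (B : GLinSh.LinBun G a)

/-- The admissible sections with closed orbits. -/
def StAdm : Type u := { j : Adm B // GLinSh.ClosedOrbitsOn a (nvOpen B.π j.sec) }

theorem coe_sLocus : B.sLocus = ((⨆ j : StAdm B, nvOpen B.π j.1.sec : X.left.Opens) : Set X.left) := by
  ext x
  rw [Opens.coe_iSup, Set.mem_iUnion]
  constructor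
  · rintro ⟨n, f, hn, hf, hx, U, hU, haff, hcl⟩
    have e : U = nvOpen B.π f := Opens.ext (hU.trans (coe_nvOpen B.atlas hf.1).symm)
    exact ⟨⟨⟨(n, f), hn, hf, e ▸ haff⟩, show GLinSh.ClosedOrbitsOn a (nvOpen B.π f) from e ▸ hcl⟩,
      (coe_nvOpen B.atlas hf.1).ge hx⟩
  · rintro ⟨j, hj⟩
    exact ⟨j.1.wt, j.1.sec, j.1.pos, j.1.inv, (coe_nvOpen B.atlas j.1.inv.1).le hj, _,
      coe_nvOpen B.atlas j.1.inv.1, j.1.aff, j.2⟩

/-- The stable part of the quotient. -/
def stOpen : (quotObj B).left.Opens := ⨆ j : StAdm B, piece B j.1.inv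

theorem quotMap_preimage_stOpen :
    (quotMap B).left ⁻¹ᵁ stOpen B = (ssOpen B).ι ⁻¹ᵁ ⨆ j : StAdm B, nvOpen B.π j.1.sec := by
  rw [stOpen, Scheme.Hom.preimage_iSup, Scheme.Hom.preimage_iSup]
  exact iSup_congr fun j => quotMap_preimage B j.1.inv j.1.pos

variable [CharZero k] (hG : Red.IsReductive G) [LocallyOfFiniteType X.hom] [CompactSpace X.left]
  [QuasiSeparatedSpace X.left]
  (aU : AlgGrp.Action G (resObj X (ssOpen B))) (haU : aU.act ≫ resIncl X (ssOpen B) = (G ◁ resIncl X _) ≫ a.act)

include hG haU in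
/-- Over the stable part, points of the same fibre are in the same orbit. -/
theorem mem_range_psiY_of_stable (hi : GIT.IsInvariant aU (quotMap B))
    (z : ↥(pullback (quotMap B).left (quotMap B).left))
    (hz : (quotMap B).left (pullback.fst (quotMap B).left (quotMap B).left z) ∈ stOpen B) :
    z ∈ Set.range (GIT.PsiY aU (quotMap B) hi) := by
  obtain ⟨j, hj⟩ := Opens.mem_iSup.1 hz
  obtain ⟨aj, haj, -, -, -, hgeom, -, -⟩ := piece_quot B hG aU haU j.1
  let O := (quotMap B).left ⁻¹ᵁ piece B j.1.inv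
  let i := resIncl (resObj X (ssOpen B)) O
  haveI : IsOpenImmersion (i ≫ resIncl X (ssOpen B)).left :=
    inferInstanceAs (IsOpenImmersion (O.ι ≫ (ssOpen B).ι))
  have hcl : GIT.IsClosedAction aj := by
    refine isClosedAction_of_closedOrbitsOn (i ≫ resIncl X (ssOpen B)) ?_ aj
      (by rw [reassoc_of% haj, haU, whiskerLeft_comp_assoc]) j.2
    rintro _ ⟨q, rfl⟩
    exact (quotMap_preimage B j.1.inv j.1.pos).le q.2
  obtain ⟨hgi, -, ho, -, -⟩ := (hgeom hcl).1
  let φV := resHom (quotMap B) (piece B j.1.inv)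
  let m := pullback.map φV.left φV.left (quotMap B).left (quotMap B).left O.ι O.ι (piece B j.1.inv).ι
    (morphismRestrict_ι _ _) (morphismRestrict_ι _ _)
  obtain ⟨z', hz'⟩ : z ∈ Set.range m := by
    rw [Scheme.Pullback.range_map]
    refine ⟨?_, ?_⟩
    · show _ ∈ Set.range O.ι
      rw [Scheme.Opens.range_ι]
      exact hj
    · show _ ∈ Set.range O.ι
      rw [Scheme.Opens.range_ι]
      show (quotMap B).left (pullback.snd (quotMap B).left (quotMap B).left z) ∈ piece B j.1.inv
      rw [← Scheme.Hom.comp_apply, ← pullback.condition, Scheme.Hom.comp_apply]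
      exact hj
  obtain ⟨w, hw⟩ := ho z'
  refine ⟨(G ◁ i).left w, ?_⟩
  have e : (G ◁ i).left ≫ GIT.PsiY aU (quotMap B) hi = GIT.PsiY aj φV hgi ≫ m := by
    refine pullback.hom_ext ?_ ?_
    · simp only [Category.assoc, m, GIT.PsiY, pullback.lift_fst, pullback.lift_fst_assoc]
      exact congrArg (fun q : G ⊗ resObj (resObj X (ssOpen B)) O ⟶ resObj X (ssOpen B) => q.left) haj.symm
    · simp only [Category.assoc, m, GIT.PsiY, pullback.lift_snd, pullback.lift_snd_assoc]
      exact congrArg (fun q : G ⊗ resObj (resObj X (ssOpen B)) O ⟶ resObj X (ssOpen B) => q.left)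
        (whiskerLeft_snd G i)
  exact (congrArg (fun q : (G ⊗ resObj (resObj X (ssOpen B)) O).left ⟶
    pullback (quotMap B).left (quotMap B).left => q w) e).trans ((congrArg m hw).trans hz')

end

end Groth.Agent.H20SS
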