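import Groth.Agent.H20SS.Inv
import Mathlib.Algebra.Polynomial.Coeff

/-!
Invariant functions on the non-vanishing locus extend after multiplying by a power of the section.
-/

set_option autoImplicit false
set_option linter.style.haveILetI false
set_option linter.unusedSectionVars false
set_option backward.isDefEq.respectTransparency false

universe u

open CategoryTheory CategoryTheory.Limits MonoidalCategory CartesianMonoidalCategory MonObj GrpObj AlgebraicGeometry
  Opposite TopologicalSpace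

namespace Groth.Agent.H20SS

noncomputable section

/-- Functions with the same restriction to a basic open agree after multiplying by a power. -/
theorem exists_pow_mul_eq_of_res_eq {Y : Scheme.{u}} {U : Y.Opens} (hU : IsCompact (U : Set Y)) (F a b : Γ(Y, U))
    (h : Y.presheaf.map (homOfLE (Y.basicOpen_le F)).op a = Y.presheaf.map (homOfLE (Y.basicOpen_le F)).op b) :
    ∃ m : ℕ, F ^ m * a = F ^ m * b := by
  obtain ⟨m, hm⟩ := exists_pow_mul_eq_zero_of_res_basicOpen_eq_zero_of_isCompact Y hU (a - b) F (by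
    show Y.presheaf.map (homOfLE (Y.basicOpen_le F)).op (a - b) = 0
    rw [map_sub, h, sub_self])
  exact ⟨m, sub_eq_zero.1 (by rw [← mul_sub]; exact hm)⟩

/-- Local form: near any point the extended function has the expected weight after a power. -/
theorem exists_local_coeff {S : Scheme.{u}} {X V : Over S} {π : V ⟶ X} (A : GLinSh.LinAtlas π) {n : ℕ}
    {f : Γ(V.left, ⊤)} (hf : GLinSh.HasWeight A.chart n f) (h : Γ(X.left, nvOpen π f)) (N : ℕ) (yv : Γ(V.left, ⊤))
    (hyv : resF π (nvOpen π f) f yv = embSec π (nvOpen π f) f h * resF π (nvOpen π f) f f ^ N) (x : X.left) :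
    ∃ (W U : X.left.Opens) (hWU : W ≤ U) (y : Γ(V.left, π.left ⁻¹ᵁ U)), x ∈ W ∧ y ∈ A.chart U ∧
      ∃ M : ℕ, ∀ L, M ≤ L → ∃ a : Γ(X.left, W),
        GLinSh.resTop π W (yv * f ^ L) = π.left.app W a * GLinSh.res π hWU y ^ ((N + L) * n) := by
  haveI := A.affine
  obtain ⟨U, hxU, y, hy⟩ := A.cover x
  obtain ⟨c₀, hc₀⟩ := hf U y hy
  obtain ⟨W, hW, hxW, hWU'⟩ := exists_isAffineOpen_mem_and_subset (x := x) (U := U) hxU
  have hWU : W ≤ U := hWU'
  have hV : IsAffineOpen (π.left ⁻¹ᵁ W) := hW.preimage π.left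
  set c := X.left.presheaf.map (homOfLE hWU).op c₀ with hc_def
  set Y := GLinSh.res π hWU y with hY_def
  have hc : GLinSh.resTop π W f = π.left.app W c * Y ^ n := res_coeff hWU hc₀
  have hDc : X.left.basicOpen c ≤ nvOpen π f := by
    rw [hc_def, Scheme.basicOpen_res, ← nvOpen_inf A hf hy hc₀]
    exact inf_le_right.trans inf_le_left
  obtain ⟨m, g, hg⟩ := exists_eq_pow_mul_of_isAffineOpen X.left W hW c (X.left.presheaf.map (homOfLE hDc).op h)
  simp only [TopCat.Presheaf.restrictOpenCommRingCat_apply] at hg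
  set F := GLinSh.resTop π W f with hF_def
  have hFD : V.left.basicOpen F ≤ π.left ⁻¹ᵁ X.left.basicOpen c := by
    rw [hc, Scheme.basicOpen_mul, Scheme.preimage_basicOpen]
    exact inf_le_left
  have hFE : V.left.basicOpen F ≤ π.left ⁻¹ᵁ nvOpen π f ⊓ V.left.basicOpen f := by
    refine le_inf (hFD.trans (π.left.preimage_mono hDc)) ?_
    rw [hF_def, GLinSh.resTop, Scheme.basicOpen_res]
    exact inf_le_right
  let r := V.left.presheaf.map (homOfLE (V.left.basicOpen_le F)).op
  have e0 : ∀ t : Γ(V.left, ⊤), r (GLinSh.resTop π W t) =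
      V.left.presheaf.map (homOfLE hFE).op (resF π (nvOpen π f) f t) := fun t =>
    (res_res _ _ t).trans (res_res _ _ t).symm
  have e1 : ∀ b : Γ(X.left, W), r (π.left.app W b) =
      π.left.appLE (X.left.basicOpen c) (V.left.basicOpen F) hFD
        (X.left.presheaf.map (homOfLE (X.left.basicOpen_le c)).op b) := fun b => by
    rw [Scheme.Hom.app_eq_appLE, res_appLE, appLE_res]
  have key : r (π.left.app W c ^ m * GLinSh.resTop π W yv) = r (π.left.app W (g * c ^ N) * Y ^ (N * n)) := by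
    have h1 : r (π.left.app W g) = r (π.left.app W c) ^ m *
        V.left.presheaf.map (homOfLE hFE).op (embSec π (nvOpen π f) f h) := by
      rw [e1, hg, map_mul, map_pow, e1, res_appLE, appLE_res]
      exact congrArg _ (appLE_res π.left hFD hDc h)
    have hcr : r (GLinSh.resTop π W f) = r (π.left.app W c) * r Y ^ n :=
      (congrArg r hc).trans (by rw [map_mul, map_pow])
    rw [map_mul, map_mul, map_mul, map_pow, map_mul, map_pow, map_pow, map_pow, e0, hyv, map_mul, map_pow, ← e0, h1,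
      hcr, mul_pow, ← pow_mul, Nat.mul_comm n N]
    ring
  obtain ⟨M, hM⟩ := exists_pow_mul_eq_of_res_eq hV.isCompact F _ _ key
  let e := Polynomial.eval₂RingHom (π.left.app W).hom Y
  have he : Function.Bijective e := A.coord U y hy W hW hWU
  obtain ⟨P, hP⟩ := he.2 (GLinSh.resTop π W yv)
  have hM' : Polynomial.C (c ^ (M + m)) * Polynomial.X ^ (M * n) * P =
      Polynomial.C (c ^ M * (g * c ^ N)) * Polynomial.X ^ ((M + N) * n) := by
    apply he.1
    have he1 : ∀ b, e (Polynomial.C b) = π.left.app W b := fun b => Polynomial.eval₂_C _ _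
    have he2 : e Polynomial.X = Y := Polynomial.eval₂_X _ _
    simp only [map_mul, map_pow, he1, he2, hP]
    rw [hc] at hM
    simp only [map_mul, map_pow, mul_pow, ← pow_mul] at hM ⊢
    calc _ = π.left.app W c ^ M * Y ^ (n * M) * (π.left.app W c ^ m * GLinSh.resTop π W yv) := by
          rw [Nat.mul_comm n M]; ring
      _ = _ := hM
      _ = _ := by rw [Nat.mul_comm n M]; ring
  refine ⟨W, U, hWU, y, hxW, hy, M + m, fun L hL => ⟨c ^ L * P.coeff (N * n), ?_⟩⟩
  have hz : ∀ j, j ≠ N * n → c ^ L * P.coeff j = 0 := by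
    intro j hj
    obtain ⟨d, rfl⟩ := Nat.exists_eq_add_of_le hL
    have h2 := congrArg (fun Q : Polynomial Γ(X.left, W) => Q.coeff (j + M * n)) hM'
    simp only [_root_.mul_assoc, Polynomial.coeff_C_mul] at h2
    rw [Polynomial.coeff_X_pow_mul, Polynomial.coeff_X_pow, if_neg (fun h3 => hj (by
      rw [add_mul] at h3; omega)), mul_zero, mul_zero, mul_zero] at h2
    rw [pow_add, _root_.mul_assoc, mul_left_comm, h2, mul_zero]
  have hPc : Polynomial.C (c ^ L) * P = Polynomial.C (c ^ L * P.coeff (N * n)) * Polynomial.X ^ (N * n) := by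
    ext j
    rw [Polynomial.coeff_C_mul, Polynomial.coeff_C_mul_X_pow]
    by_cases hj : j = N * n
    · rw [if_pos hj, hj]
    · rw [if_neg hj, hz j hj]
  have h4 := congrArg e hPc
  have he1 : ∀ b, e (Polynomial.C b) = π.left.app W b := fun b => Polynomial.eval₂_C _ _
  have he2 : e Polynomial.X = Y := Polynomial.eval₂_X _ _
  simp only [map_mul, map_pow, he1, he2, hP] at h4
  have h5 : GLinSh.resTop π W (yv * f ^ L) = GLinSh.resTop π W yv * F ^ L := by
    simp only [GLinSh.resTop, hF_def, map_mul, map_pow]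
  rw [h5, hc, mul_pow, ← pow_mul, add_mul, pow_add, Nat.mul_comm L n, ← _root_.mul_assoc, mul_comm _ (_ ^ L), h4,
    _root_.mul_assoc, map_mul, map_pow]

variable {S : Scheme.{u}} {G X : Over S} [GrpObj G] {a : AlgGrp.Action G X} {B : GLinSh.LinBun G a}

theorem compactSpace_total [CompactSpace X.left] : CompactSpace B.V.left := by
  haveI := B.atlas.affine
  exact ⟨by simpa using QuasiCompact.isCompact_preimage (f := B.π.left) Set.univ isOpen_univ isCompact_univ⟩

theorem quasiSeparatedSpace_total [QuasiSeparatedSpace X.left] : QuasiSeparatedSpace B.V.left := by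
  haveI := B.atlas.affine
  exact quasiSeparatedSpace_of_quasiSeparated B.π.left

theorem compactSpace_prod [QuasiCompact G.hom] {Y : Over S} [CompactSpace Y.left] : CompactSpace (G ⊗ Y).left := by
  haveI : QuasiCompact (snd G Y).left :=
    MorphismProperty.of_isPullback (P := @QuasiCompact) ((H20GQ.isPullback_fst_snd G Y).map (Over.forget S))
      (show QuasiCompact (toUnit G).left from by
        have : (toUnit G).left = G.hom := by
          have h := Over.w (toUnit G)
          simpa using h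
        rw [this]
        infer_instance)
  exact QuasiCompact.compactSpace_of_compactSpace (snd G Y).left

theorem inv_extend_aux {P GX V' X' : Scheme.{u}} [CompactSpace P] (Φ p : P ⟶ V') (q : P ⟶ GX) (σ p₂ : GX ⟶ X')
    (π : V' ⟶ X') (hΦ : q ≫ σ = Φ ≫ π) (hp : q ≫ p₂ = p ≫ π) {W : X'.Opens} (f : Γ(V', ⊤)) {O : GX.Opens}
    (hOσ : O ≤ σ ⁻¹ᵁ W) (hO₂ : O ≤ p₂ ⁻¹ᵁ W) (hDq : P.basicOpen (p.appTop f) ≤ q ⁻¹ᵁ O)
    (hE : V'.basicOpen f ≤ π ⁻¹ᵁ W) (hf : Φ.appTop f = p.appTop f) (g : Γ(V', ⊤)) (N : ℕ) (h : Γ(X', W))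
    (hg : V'.presheaf.map (homOfLE le_top).op g =
      π.appLE W (V'.basicOpen f) hE h * V'.presheaf.map (homOfLE le_top).op f ^ N)
    (hh : σ.appLE W O hOσ h = p₂.appLE W O hO₂ h) :
    ∃ M : ℕ, Φ.appTop (g * f ^ M) = p.appTop (g * f ^ M) := by
  set F := p.appTop f with hF
  have hDp : P.basicOpen F ≤ p ⁻¹ᵁ V'.basicOpen f := (Scheme.preimage_basicOpen_top p f).ge
  have hDΦ : P.basicOpen F ≤ Φ ⁻¹ᵁ V'.basicOpen f := by rw [Scheme.preimage_basicOpen_top, hf]
  have hr : ∀ (m : P ⟶ V') (e : P.basicOpen F ≤ m ⁻¹ᵁ V'.basicOpen f) (t : Γ(V', ⊤)),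
      P.presheaf.map (homOfLE (P.basicOpen_le F)).op (m.appTop t) =
        m.appLE (V'.basicOpen f) _ e (V'.presheaf.map (homOfLE le_top).op t) := fun m e t => by
    rw [Scheme.Hom.appTop, Scheme.Hom.app_eq_appLE, appLE_res]
    exact res_appLE m _ (P.basicOpen_le _) t
  have hπh : Φ.appLE (V'.basicOpen f) _ hDΦ (π.appLE W _ hE h) = p.appLE (V'.basicOpen f) _ hDp (π.appLE W _ hE h) := by
    rw [appLE_appLE, appLE_appLE, appLE_congr_hom hΦ.symm _ h, appLE_congr_hom hp.symm _ h,
      ← appLE_appLE q σ hOσ hDq h, ← appLE_appLE q p₂ hO₂ hDq h, hh]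
  have hres : P.presheaf.map (homOfLE (P.basicOpen_le F)).op (Φ.appTop g) =
      P.presheaf.map (homOfLE (P.basicOpen_le F)).op (p.appTop g) := by
    rw [hr Φ hDΦ g, hr p hDp g, hg, map_mul, map_mul, map_pow, map_pow, hπh, ← hr Φ hDΦ f, ← hr p hDp f, hf]
  obtain ⟨M, hM⟩ := exists_pow_mul_eq_of_res_eq isCompact_univ F (Φ.appTop g) (p.appTop g) hres
  exact ⟨M, by rw [map_mul, map_mul, map_pow, map_pow, hf, mul_comm, hM, mul_comm]⟩

/-- An invariant function on the non-vanishing locus of an invariant section extends after a power. -/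
theorem exists_extension [CompactSpace X.left] [QuasiSeparatedSpace X.left] [QuasiCompact G.hom] {n : ℕ}
    {f : Γ(B.V.left, ⊤)} (hf : B.IsInvSection n f) (h : Γ(X.left, nvOpen B.π f))
    (hh : IsInvOn a (nvOpen B.π f) h) :
    ∃ (N : ℕ) (g : Γ(B.V.left, ⊤)), B.IsInvSection (N * n) g ∧
      IsRatio (π := B.π) (nvOpen B.π f) (f ^ N) g h := by
  classical
  haveI := compactSpace_total (B := B)
  haveI := quasiSeparatedSpace_total (B := B)
  haveI := compactSpace_prod (G := G) (Y := B.V)
  have hE : B.V.left.basicOpen f ≤ B.π.left ⁻¹ᵁ nvOpen B.π f := basicOpen_le_preimage_nvOpen B.atlas hf.1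
  obtain ⟨N, yv, hyv⟩ := exists_eq_pow_mul_of_isCompact_of_isQuasiSeparated B.V.left ⊤ isCompact_univ
    (by simpa using isQuasiSeparated_univ) f (B.π.left.appLE _ _ hE h)
  simp only [TopCat.Presheaf.restrictOpenCommRingCat_apply] at hyv
  have hyv' : resF B.π (nvOpen B.π f) f yv =
      embSec B.π (nvOpen B.π f) f h * resF B.π (nvOpen B.π f) f f ^ N := by
    have := congrArg (B.V.left.presheaf.map (homOfLE (inf_le_right :
      B.π.left ⁻¹ᵁ nvOpen B.π f ⊓ B.V.left.basicOpen f ≤ B.V.left.basicOpen f)).op) hyv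
    rw [map_mul, map_pow, res_res, res_res, res_appLE] at this
    rw [mul_comm]
    exact this
  choose W U hWU y hxW hy M hM using exists_local_coeff B.atlas hf.1 h N yv hyv'
  obtain ⟨t, ht⟩ := isCompact_univ.elim_finite_subcover (fun x : X.left => (W x : Set X.left))
    (fun x => (W x).2) fun x _ => Set.mem_iUnion.2 ⟨x, hxW x⟩
  let L := t.sup M
  have hw : GLinSh.HasWeight B.atlas.chart ((N + L) * n) (yv * f ^ L) := hasWeight_of_local B.atlas fun x => by
    obtain ⟨i, hi, hxi⟩ := Set.mem_iUnion₂.1 (ht (Set.mem_univ x))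
    exact ⟨W i, U i, hWU i, y i, hxi, hy i, hM i L (Finset.le_sup hi)⟩
  have hg : B.V.left.presheaf.map (homOfLE le_top).op (yv * f ^ L) =
      B.π.left.appLE (nvOpen B.π f) (B.V.left.basicOpen f) hE h *
        B.V.left.presheaf.map (homOfLE le_top).op f ^ (N + L) := by
    rw [map_mul, map_pow, pow_add, show B.V.left.presheaf.map (homOfLE le_top).op yv = _ from hyv]
    ring
  have hDq : (G ⊗ B.V).left.basicOpen ((snd G B.V).left.appTop f) ≤
      (G ◁ B.π).left ⁻¹ᵁ ((snd G X).left ⁻¹ᵁ nvOpen B.π f) := by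
    rw [← Scheme.preimage_basicOpen_top, whiskerPreimage_le]
    exact (snd G B.V).left.preimage_mono hE
  have hΦ : (G ◁ B.π).left ≫ a.act.left = B.lift.act.left ≫ B.π.left := by
    rw [← Over.comp_left, ← Over.comp_left, B.lift_π]
  have hp : (G ◁ B.π).left ≫ (snd G X).left = (snd G B.V).left ≫ B.π.left := by
    rw [← Over.comp_left, ← Over.comp_left, whiskerLeft_snd]
  have hle := (preimage_nvOpen hf).ge
  obtain ⟨K, hK⟩ := inv_extend_aux B.lift.act.left (snd G B.V).left (G ◁ B.π).left a.act.left (snd G X).left B.π.left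
    hΦ hp (W := nvOpen B.π f) f hle le_rfl hDq hE hf.2 (yv * f ^ L) (N + L) h hg (hh hle)
  refine ⟨N + L + (K + 1), yv * f ^ L * f ^ (K + 1), ⟨?_, ?_⟩, ?_⟩
  · rw [add_mul (N + L) (K + 1)]
    exact hasWeight_mul B.atlas hw (hasWeight_pow B.atlas hf.1 (K + 1))
  · have hf2 := hf.2
    unfold GLinSh.IsInvFn at hf2 ⊢
    rw [pow_succ, ← _root_.mul_assoc, map_mul _ (yv * f ^ L * f ^ K) f, map_mul _ (yv * f ^ L * f ^ K) f, hK, hf2]
  · unfold IsRatio
    have hle2 : B.π.left ⁻¹ᵁ nvOpen B.π f ⊓ B.V.left.basicOpen (f ^ (N + L + (K + 1))) ≤ B.V.left.basicOpen f := by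
      exact inf_le_right.trans (le_of_eq (B.V.left.basicOpen_pow f (show 0 < N + L + (K + 1) by omega)))
    have h2 := congrArg (B.V.left.presheaf.map (homOfLE hle2).op) hg
    rw [res_res, map_mul (B.V.left.presheaf.map (homOfLE hle2).op).hom, map_pow (B.V.left.presheaf.map (homOfLE hle2).op).hom,
      res_res, res_appLE] at h2
    rw [map_mul (resF B.π (nvOpen B.π f) (f ^ (N + L + (K + 1)))).hom (yv * f ^ L) (f ^ (K + 1)), h2, map_pow,
      map_pow, _root_.mul_assoc]
    exact congrArg _ (pow_add _ (N + L) (K + 1))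

end

end Groth.Agent.H20SS
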