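import Groth.Agent.H20SS.Orbit
import Mathlib.Algebra.Module.Submodule.Union
import Mathlib.AlgebraicGeometry.ResidueField
import Mathlib.Data.Fintype.EquivFin

/-!
Combinations of invariant sections not vanishing at finitely many given points.
-/

set_option autoImplicit false
set_option linter.style.haveILetI false
set_option linter.unusedSectionVars false
set_option backward.isDefEq.respectTransparency false

universe u

open CategoryTheory CategoryTheory.Limits MonoidalCategory CartesianMonoidalCategory MonObj GrpObj AlgebraicGeometry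
  Opposite TopologicalSpace

namespace Groth.Agent.H20SS

noncomputable section

variable {k : Type u} [Field k]

/-- A scalar of the field as a function on the base. -/
abbrev kfun : k →+* Γ(Spec (CommRingCat.of k), ⊤) := (Scheme.ΓSpecIso (CommRingCat.of k)).inv.hom

variable {G X : Over (Spec (CommRingCat.of k))} [GrpObj G] {a : AlgGrp.Action G X} (B : GLinSh.LinBun G a)

/-- A linear combination of sections. -/
def comb {I : Type} [Fintype I] (f : I → Γ(B.V.left, ⊤)) (c : I → k) : Γ(B.V.left, ⊤) :=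
  ∑ i, scalar B (kfun (c i)) * f i

variable {B} {I : Type} [Fintype I]

theorem isInvSection_comb {n : ℕ} {f : I → Γ(B.V.left, ⊤)} (hf : ∀ i, B.IsInvSection n (f i)) (c : I → k) :
    B.IsInvSection n (comb B f c) :=
  isInvSection_sum _ fun i _ => isInvSection_scalar_mul _ (hf i)

theorem resTop_comb {n : ℕ} {U : X.left.Opens} {y : Γ(B.V.left, B.π.left ⁻¹ᵁ U)} (f : I → Γ(B.V.left, ⊤))
    (c : I → k) (d : I → Γ(X.left, U)) (hd : ∀ i, GLinSh.resTop B.π U (f i) = B.π.left.app U (d i) * y ^ n) :
    GLinSh.resTop B.π U (comb B f c) = B.π.left.app U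
      (∑ i, X.left.presheaf.map (homOfLE (le_top : U ≤ ⊤)).op (X.hom.appTop (kfun (c i))) * d i) * y ^ n := by
  rw [map_sum, Finset.sum_mul]
  unfold GLinSh.resTop at hd ⊢
  rw [comb, map_sum]
  refine Finset.sum_congr rfl fun i _ => ?_
  rw [map_mul, map_mul, hd, scalar_eq, ← _root_.mul_assoc]
  congr 2
  exact res_app (π := B.π) (le_top : U ≤ ⊤) _

/-- Finitely many points where some of the sections do not vanish: a combination avoids all of them. -/
theorem exists_comb_mem [Infinite k] {n : ℕ} {f : I → Γ(B.V.left, ⊤)} (hf : ∀ i, B.IsInvSection n (f i))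
    (s : Finset X.left) (hs : ∀ x ∈ s, ∃ i, x ∈ nvOpen B.π (f i)) :
    ∃ c : I → k, ∀ x ∈ s, x ∈ nvOpen B.π (comb B f c) := by
  classical
  choose U hxU y hy using fun x : s => B.atlas.cover x.1
  choose d hd using fun (x : s) (i : I) => (hf i).1 (U x) (y x) (hy x)
  let ev : (x : s) → Γ(X.left, U x) →+* X.left.residueField x.1 := fun x => (X.left.evaluation (U x) x.1 (hxU x)).hom
  let τ : (x : s) → k →+* X.left.residueField x.1 := fun x =>
    (ev x).comp ((X.left.presheaf.map (homOfLE (le_top : U x ≤ ⊤)).op).hom.comp (X.hom.appTop.hom.comp kfun))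
  let p : s → Submodule k (I → k) := fun x =>
    { carrier := {c | ∑ i, τ x (c i) * ev x (d x i) = 0}
      add_mem' := fun {c c'} hc hc' => by
        simp only [Set.mem_setOf_eq, Pi.add_apply, map_add, add_mul, Finset.sum_add_distrib] at hc hc' ⊢
        rw [hc, hc', add_zero]
      zero_mem' := by simp
      smul_mem' := fun r c hc => by
        simp only [Set.mem_setOf_eq, Pi.smul_apply, smul_eq_mul, map_mul, _root_.mul_assoc, ← Finset.mul_sum] at hc ⊢
        rw [hc, mul_zero] }
  have hp : ∀ x, p x ≠ ⊤ := fun x htop => by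
    obtain ⟨i, hi⟩ := hs x.1 x.2
    have h1 : x.1 ∈ X.left.basicOpen (d x i) := by
      rw [← nvOpen_inf B.atlas (hf i).1 (hy x) (hd x i)]
      exact ⟨hi, hxU x⟩
    rw [← Scheme.evaluation_ne_zero_iff_mem_basicOpen X.left x.1 (hxU x)] at h1
    have h2 : (fun j => if j = i then (1 : k) else 0) ∈ p x := htop ▸ Submodule.mem_top
    change ∑ j, τ x (if j = i then (1 : k) else 0) * ev x (d x j) = 0 at h2
    rw [Finset.sum_eq_single i (fun j _ hj => by rw [if_neg hj, map_zero, zero_mul])
      (fun h => absurd (Finset.mem_univ i) h), if_pos rfl, map_one, _root_.one_mul] at h2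
    exact h1 h2
  obtain ⟨c, hc⟩ := Submodule.exists_forall_notMem_of_forall_ne_top p hp
  refine ⟨c, fun x hx => ?_⟩
  let x' : s := ⟨x, hx⟩
  have h1 := SetLike.ext_iff.1 (nvOpen_inf B.atlas (isInvSection_comb hf c).1 (hy x')
    (resTop_comb f c (d x') (hd x'))) x
  refine (h1.2 ?_).1
  rw [← Scheme.evaluation_ne_zero_iff_mem_basicOpen X.left x (hxU x')]
  intro h0
  apply hc x'
  change ∑ i, τ x' (c i) * ev x' (d x' i) = 0
  rw [← h0, map_sum]
  exact Finset.sum_congr rfl fun i _ => (map_mul (ev x') _ _).symm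

/-- A combination of sections with affine loci has an affine locus. -/
theorem isAffineOpen_comb {n : ℕ} (hn : 0 < n) {f : I → Γ(B.V.left, ⊤)} (hf : ∀ i, B.IsInvSection n (f i))
    (haff : ∀ i, IsAffineOpen (nvOpen B.π (f i))) (c : I → k) : IsAffineOpen (nvOpen B.π (comb B f c)) := by
  classical
  set F := comb B f c with hF
  have hFw := (isInvSection_comb hf c).1
  choose h hh using fun i => exists_isRatio B.atlas (g := f i) hFw (hf i).1 (le_refl (nvOpen B.π F))
  refine isAffineOpen_of_isAffineOpen_basicOpen _ (Set.range h) ?_ ?_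
  · rw [Ideal.eq_top_iff_one]
    have hsum : IsRatio (π := B.π) (nvOpen B.π F) F F
        (∑ i, X.left.presheaf.map (homOfLE le_top).op (X.hom.appTop (kfun (c i))) * h i) := by
      have key : ∀ J : Finset I, IsRatio (π := B.π) (nvOpen B.π F) F (∑ i ∈ J, scalar B (kfun (c i)) * f i)
          (∑ i ∈ J, X.left.presheaf.map (homOfLE le_top).op (X.hom.appTop (kfun (c i))) * h i) := by
        intro J
        induction J using Finset.induction_on with
        | empty => simpa using isRatio_zero (π := B.π) (nvOpen B.π F) F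
        | insert i J hi ih =>
          rw [Finset.sum_insert hi, Finset.sum_insert hi, scalar_eq]
          exact ((hh i).mul_left _).add ih
      exact key Finset.univ
    rw [IsRatio.eq B.atlas hFw le_rfl (isRatio_self _ F) hsum]
    exact sum_mem fun i _ => Ideal.mul_mem_left _ _ (Ideal.subset_span ⟨i, rfl⟩)
  · rintro _ ⟨i, rfl⟩
    rw [basicOpen_of_isRatio B.atlas hFw (hf i).1 le_rfl (hh i), inf_comm]
    exact isAffineOpen_nvOpen_inf B.atlas (hf i).1 hn hFw (haff i)

/-- Orbits closed on each member of a family are closed on the locus of a combination. -/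
theorem closedOrbitsOn_comb {n : ℕ} {f : I → Γ(B.V.left, ⊤)} (hf : ∀ i, B.IsInvSection n (f i))
    (hcl : ∀ i, GLinSh.ClosedOrbitsOn a (nvOpen B.π (f i))) (c : I → k) :
    GLinSh.ClosedOrbitsOn a (nvOpen B.π (comb B f c)) := by
  classical
  set F := comb B f c with hF
  have hFi := isInvSection_comb hf c
  intro Ω _ _ T e x hx
  haveI : Subsingleton T.left := by
    haveI : Subsingleton ↥(Spec (CommRingCat.of Ω)) := inferInstanceAs (Subsingleton (PrimeSpectrum Ω))
    exact (Scheme.homeoOfIso e).subsingleton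
  haveI : Nonempty T.left := by
    haveI : Nonempty ↥(Spec (CommRingCat.of Ω)) := inferInstanceAs (Nonempty (PrimeSpectrum Ω))
    exact Nonempty.map (Scheme.homeoOfIso e).symm inferInstance
  obtain ⟨t₀⟩ := ‹Nonempty T.left›
  have hx₀ : x.left t₀ ∈ nvOpen B.π F := hx ⟨t₀, rfl⟩
  -- some member does not vanish at the point
  obtain ⟨i, hi⟩ : ∃ i, x.left t₀ ∈ nvOpen B.π (f i) := by
    by_contra hno
    push Not at hno
    obtain ⟨U, hxU, y, hy⟩ := B.atlas.cover (x.left t₀)
    choose d hd using fun i : I => (hf i).1 U y hy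
    have h1 : x.left t₀ ∈ X.left.basicOpen
        (∑ i, X.left.presheaf.map (homOfLE (le_top : U ≤ ⊤)).op (X.hom.appTop (kfun (c i))) * d i) := by
      rw [← nvOpen_inf B.atlas hFi.1 hy (resTop_comb f c d hd)]
      exact ⟨hx₀, hxU⟩
    rw [← Scheme.evaluation_ne_zero_iff_mem_basicOpen X.left _ hxU, map_sum] at h1
    refine h1 (Finset.sum_eq_zero fun i _ => ?_)
    have h2 : x.left t₀ ∉ X.left.basicOpen (d i) := fun h3 =>
      hno i ((SetLike.ext_iff.1 (nvOpen_inf B.atlas (hf i).1 hy (hd i)) _).2 h3).1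
    rw [← Scheme.evaluation_eq_zero_iff_notMem_basicOpen X.left _ hxU] at h2
    rw [map_mul, h2, mul_zero]
  have hxi : ∀ t, x.left t ∈ nvOpen B.π (f i) := fun t => Subsingleton.elim t₀ t ▸ hi
  have hxF : ∀ t, x.left t ∈ nvOpen B.π F := fun t => hx ⟨t, rfl⟩
  obtain ⟨h, hh⟩ := exists_isRatio B.atlas (g := f i) hFi.1 (hf i).1 (le_refl (nvOpen B.π F))
  have hD := basicOpen_of_isRatio B.atlas hFi.1 (hf i).1 le_rfl hh
  have hci := hcl i Ω T e x (by rintro _ ⟨t, rfl⟩; exact hxi t)
  refine isClosed_of_closure_subset fun p hp => ?_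
  have hp' : p.1 ∈ closure (Set.range (GIT.psi a x).left) :=
    continuous_subtype_val.closure_preimage_subset _ hp
  have hmem := orbit_closure_mem (preimage_nvOpen hFi).ge (isInvOn_of_isRatio hFi (hf i).2 le_rfl hh) x
    (fun t => hD.ge ⟨hxF t, hxi t⟩) hp' p.2
  have hpi : (fst X T).left p.1 ∈ nvOpen B.π (f i) := (hD.le hmem).2
  have : (⟨p.1, hpi⟩ : (fst X T).left ⁻¹ᵁ nvOpen B.π (f i)) ∈
      closure ((fun q : (fst X T).left ⁻¹ᵁ nvOpen B.π (f i) => (q : (X ⊗ T).left)) ⁻¹'
        Set.range (GIT.psi a x).left) := by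
    refine closure_subtype.2 (closure_mono ?_
      (((fst X T).left ⁻¹ᵁ nvOpen B.π (f i)).2.inter_closure ⟨hpi, hp'⟩))
    rintro q ⟨hq, hqR⟩
    exact ⟨⟨q, hq⟩, hqR, rfl⟩
  exact (hci.closure_eq.le this :)

end

end Groth.Agent.H20SS
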