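import Groth.Agent.H20SS.Inv

/-!
Invariant functions are constant on orbits: closures of orbits stay inside their loci.
-/

set_option autoImplicit false
set_option linter.style.haveILetI false
set_option linter.unusedSectionVars false
set_option backward.isDefEq.respectTransparency false

universe u

open CategoryTheory CategoryTheory.Limits MonoidalCategory CartesianMonoidalCategory MonObj GrpObj AlgebraicGeometry
  Opposite TopologicalSpace

namespace Groth.Agent.H20SS

noncomputable section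

/-- A function pulling back to zero vanishes on the closure of the image. -/
theorem notMem_basicOpen_of_mem_closure {P Y : Scheme.{u}} (m : P ⟶ Y) {O : Y.Opens} (d : Γ(Y, O)) {D : P.Opens}
    (e : D ≤ m ⁻¹ᵁ O) (hD : m ⁻¹ᵁ O ≤ D) (h0 : m.appLE O D e d = 0) {p : Y}
    (hp : p ∈ closure (Set.range m)) : p ∉ Y.basicOpen d := by
  intro hpd
  obtain ⟨_, hq, z, rfl⟩ := mem_closure_iff.1 hp _ (Y.basicOpen d).2 hpd
  have h1 : z ∈ P.basicOpen (m.appLE O D e d) :=
    (SetLike.ext_iff.mp (Scheme.basicOpen_appLE m _ _ e d) z).mpr ⟨hD (Y.basicOpen_le d hq), hq⟩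
  rw [h0, Scheme.basicOpen_zero] at h1
  exact h1

/-- Subtracting a function vanishing at a point does not move it out of the non-vanishing locus. -/
theorem mem_basicOpen_of_sub_notMem {Y : Scheme.{u}} {O : Y.Opens} (s t : Γ(Y, O)) {p : Y}
    (ht : p ∈ Y.basicOpen t) (hst : p ∉ Y.basicOpen (s - t)) : p ∈ Y.basicOpen s := by
  by_contra hs
  have hpO : p ∈ O := Y.basicOpen_le t ht
  rw [← Scheme.evaluation_eq_zero_iff_notMem_basicOpen Y p hpO] at hs hst
  rw [map_sub, hs, zero_sub, neg_eq_zero, Scheme.evaluation_eq_zero_iff_notMem_basicOpen] at hst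
  exact hst ht

variable {S : Scheme.{u}} {G X T : Over S} [GrpObj G] {a : AlgGrp.Action G X}

theorem psi_fst (x : T ⟶ X) : GIT.psi a x ≫ fst X T = (G ◁ x) ≫ a.act := lift_fst _ _

theorem psi_snd' (x : T ⟶ X) : GIT.psi a x ≫ snd X T = snd G T := lift_snd _ _

/-- The orbit of a point of a saturated open stays in it. -/
theorem orbit_mem {W : X.left.Opens} (hW : (snd G X).left ⁻¹ᵁ W ≤ a.act.left ⁻¹ᵁ W) (x : T ⟶ X)
    (hx : ∀ t, x.left t ∈ W) (w : (G ⊗ T).left) : (fst X T).left ((GIT.psi a x).left w) ∈ W := by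
  rw [← Scheme.Hom.comp_apply, ← Over.comp_left, psi_fst, Over.comp_left, Scheme.Hom.comp_apply]
  refine hW (show (snd G X).left ((G ◁ x).left w) ∈ W from ?_)
  rw [← Scheme.Hom.comp_apply, ← Over.comp_left, whiskerLeft_snd, Over.comp_left, Scheme.Hom.comp_apply]
  exact hx _

/-- The closure of an orbit inside a saturated open stays in the locus of a non-vanishing invariant function. -/
theorem orbit_closure_mem {W : X.left.Opens} (hW : (snd G X).left ⁻¹ᵁ W ≤ a.act.left ⁻¹ᵁ W) {h : Γ(X.left, W)}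
    (hh : IsInvOn a W h) (x : T ⟶ X) (hx : ∀ t, x.left t ∈ X.left.basicOpen h) {p : (X ⊗ T).left}
    (hp : p ∈ closure (Set.range (GIT.psi a x).left)) (hpW : (fst X T).left p ∈ W) :
    (fst X T).left p ∈ X.left.basicOpen h := by
  have hxW : ⊤ ≤ x.left ⁻¹ᵁ W := fun t _ => X.left.basicOpen_le h (hx t)
  set O := (fst X T).left ⁻¹ᵁ W with hO
  have hOs : O ≤ (snd X T).left ⁻¹ᵁ (⊤ : T.left.Opens) := le_top
  set γ := x.left.appLE W ⊤ hxW h with hγ
  set s := (fst X T).left.appLE W O le_rfl h with hs_def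
  set t := (snd X T).left.appLE ⊤ O hOs γ with ht_def
  set D := (GIT.psi a x).left ⁻¹ᵁ O with hD
  have hD1 : D ≤ (G ◁ x).left ⁻¹ᵁ ((snd G X).left ⁻¹ᵁ W) := by
    intro w _
    show (snd G X).left ((G ◁ x).left w) ∈ W
    rw [← Scheme.Hom.comp_apply, ← Over.comp_left, whiskerLeft_snd, Over.comp_left, Scheme.Hom.comp_apply]
    exact hxW (x := (snd G T).left w) trivial
  have e1 : (GIT.psi a x).left ≫ (fst X T).left = (G ◁ x).left ≫ a.act.left := by
    rw [← Over.comp_left, psi_fst, Over.comp_left]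
  have e2 : (G ◁ x).left ≫ (snd G X).left = (GIT.psi a x).left ≫ (snd X T).left ≫ x.left := by
    rw [← Over.comp_left, whiskerLeft_snd, ← Over.comp_left, ← Over.comp_left, ← Category.assoc, psi_snd']
  have key : (GIT.psi a x).left.appLE O D le_rfl s = (GIT.psi a x).left.appLE O D le_rfl t := by
    rw [hs_def, ht_def, hγ, appLE_appLE, appLE_congr_hom e1 _ h, ← appLE_appLE _ _ hW hD1 h, hh hW, appLE_appLE,
      appLE_congr_hom e2 _ h, appLE_appLE, appLE_appLE]
    exact appLE_congr_hom rfl _ h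
  have h0 : (GIT.psi a x).left.appLE O D le_rfl (s - t) = 0 := by rw [map_sub, key, sub_self]
  have hnot := notMem_basicOpen_of_mem_closure _ (s - t) le_rfl le_rfl h0 hp
  have ht : p ∈ (X ⊗ T).left.basicOpen t := by
    refine (SetLike.ext_iff.mp (Scheme.basicOpen_appLE _ _ _ hOs γ) p).mpr ⟨hpW, ?_⟩
    exact (SetLike.ext_iff.mp (Scheme.basicOpen_appLE _ _ _ hxW h) _).mpr ⟨trivial, hx _⟩
  exact ((SetLike.ext_iff.mp (Scheme.basicOpen_appLE _ _ _ le_rfl h) p).mp
    (mem_basicOpen_of_sub_notMem s t ht hnot)).2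

end

end Groth.Agent.H20SS
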