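import Groth.Agent.H20SS.Chart
import Groth.Agent.H20GQ.Local
import Mathlib.AlgebraicGeometry.ProjectiveSpectrum.Proper
import Mathlib.AlgebraicGeometry.Morphisms.Affine

/-!
The quotient of the semi-stable locus, inside the projective spectrum of the invariant sections.
-/

set_option autoImplicit false
set_option linter.style.haveILetI false
set_option linter.unusedSectionVars false
set_option backward.isDefEq.respectTransparency false

universe u

open CategoryTheory CategoryTheory.Limits MonoidalCategory CartesianMonoidalCategory MonObj GrpObj AlgebraicGeometry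
  Opposite TopologicalSpace HomogeneousLocalization
open Groth.Agent.H20GQ (resObj resIncl resHom)

namespace Groth.Agent.H20SS

noncomputable section

variable {k : Type u} [Field k] {G X : Over (Spec (CommRingCat.of k))} [GrpObj G] {a : AlgGrp.Action G X}
  (B : GLinSh.LinBun G a)

/-- The admissible sections: invariant, of positive weight, with affine locus. -/
def Adm : Type u :=
  { q : ℕ × Γ(B.V.left, ⊤) // 0 < q.1 ∧ B.IsInvSection q.1 q.2 ∧ IsAffineOpen (nvOpen B.π q.2) }

variable {B}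

/-- The weight of an admissible section. -/
abbrev Adm.wt (j : Adm B) : ℕ := j.1.1
/-- The underlying function. -/
abbrev Adm.sec (j : Adm B) : Γ(B.V.left, ⊤) := j.1.2
theorem Adm.pos (j : Adm B) : 0 < j.wt := j.2.1
theorem Adm.inv (j : Adm B) : B.IsInvSection j.wt j.sec := j.2.2.1
theorem Adm.aff (j : Adm B) : IsAffineOpen (nvOpen B.π j.sec) := j.2.2.2

variable (B)

/-- The semi-stable locus as an open. -/
abbrev ssOpen : X.left.Opens := ⨆ j : Adm B, nvOpen B.π j.sec

theorem coe_ssOpen : (ssOpen B : Set X.left) = B.ssLocus := by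
  ext x
  rw [ssOpen, Opens.coe_iSup, Set.mem_iUnion]
  constructor
  · rintro ⟨j, hj⟩
    exact ⟨j.wt, j.sec, j.pos, j.inv, (coe_nvOpen B.atlas j.inv.1).le hj, _, coe_nvOpen B.atlas j.inv.1, j.aff⟩
  · rintro ⟨n, f, hn, hf, hx, U, hU, haff⟩
    have e : U = nvOpen B.π f := Opens.ext (hU.trans (coe_nvOpen B.atlas hf.1).symm)
    exact ⟨⟨(n, f), hn, hf, e ▸ haff⟩, (coe_nvOpen B.atlas hf.1).ge hx⟩

/-- The projective spectrum of the invariant sections, over the field. -/
def projOver : Over (Spec (CommRingCat.of k)) :=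
  Over.mk (Proj.toSpecZero (grade B) ≫ Spec.map (CommRingCat.ofHom (scalHom B)))

instance isSeparated_projOver : IsSeparated (projOver B).hom := by
  show IsSeparated (Proj.toSpecZero (grade B) ≫ Spec.map (CommRingCat.ofHom (scalHom B)))
  infer_instance

variable {B}

/-- The basic open of a section. -/
abbrev dplus {n : ℕ} {f : Γ(B.V.left, ⊤)} (hf : B.IsInvSection n f) : (projOver B).left.Opens :=
  Proj.basicOpen (grade B) (el hf)

/-- The chart into the projective spectrum. -/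
def chartProj {n : ℕ} {f : Γ(B.V.left, ⊤)} (hf : B.IsInvSection n f) (hn : 0 < n)
    (haff : IsAffineOpen (nvOpen B.π f)) : (nvOpen B.π f).toScheme ⟶ (projOver B).left :=
  chartSpec hf haff ≫ Proj.awayι (grade B) (el hf) (el_mem hf) hn

theorem awayι_over {n : ℕ} {f : Γ(B.V.left, ⊤)} (hf : B.IsInvSection n f) (hn : 0 < n) :
    Proj.awayι (grade B) (el hf) (el_mem hf) hn ≫ (projOver B).hom =
      Spec.map (CommRingCat.ofHom (algebraMap k (Away (grade B) (el hf)))) := by
  show _ ≫ Proj.toSpecZero (grade B) ≫ _ = _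
  rw [Proj.awayι_toSpecZero_assoc, ← Spec.map_comp, ← CommRingCat.ofHom_comp, algebraMap_away]

theorem chartProj_over {n : ℕ} {f : Γ(B.V.left, ⊤)} (hf : B.IsInvSection n f) (hn : 0 < n)
    (haff : IsAffineOpen (nvOpen B.π f)) : chartProj hf hn haff ≫ (projOver B).hom = (nvOpen B.π f).ι ≫ X.hom := by
  rw [chartProj, Category.assoc, awayι_over, chartSpec_over]

theorem homOfLE_chartProj {n m l : ℕ} {f g p : Γ(B.V.left, ⊤)} (hf : B.IsInvSection n f) (hn : 0 < n)
    (haff : IsAffineOpen (nvOpen B.π f)) (hg : B.IsInvSection m g) (hp : B.IsInvSection l p) (e₁ : l = n + m)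
    (e₂ : p = f * g) (hl : 0 < l) (haffp : IsAffineOpen (nvOpen B.π p)) (e : nvOpen B.π p ≤ nvOpen B.π f) :
    X.left.homOfLE e ≫ chartProj hf hn haff = chartProj hp hl haffp := by
  subst e₁; subst e₂
  have h1 : X.left.homOfLE e ≫ chartSpec hf haff = chartSpec hp haffp ≫
      Spec.map (CommRingCat.ofHom (awayMap (grade B) (el_mem hg) (el_mul hf hg).symm)) := by
    rw [chartSpec, chartSpec, Category.assoc, ← Spec.map_comp, ← CommRingCat.ofHom_comp]
    have h2 : (awayHom hp).comp (awayMap (grade B) (el_mem hg) (el_mul hf hg).symm) =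
        (X.left.presheaf.map (homOfLE e).op).hom.comp (awayHom hf) :=
      RingHom.ext fun z => awayHom_awayMap hf hg z e
    rw [h2, CommRingCat.ofHom_comp, Spec.map_comp, CommRingCat.ofHom_hom, ← Category.assoc, ← Category.assoc]
    congr 1
    haveI : IsAffine (nvOpen B.π (f * g)).toScheme := haffp
    show X.left.homOfLE e ≫ (nvOpen B.π f).toSpecΓ = (nvOpen B.π (f * g)).toSpecΓ ≫ Spec.map _
    rw [Scheme.Opens.toSpecΓ_SpecMap_presheaf_map]
  rw [chartProj, chartProj, ← Category.assoc, h1, Category.assoc, Proj.SpecMap_awayMap_awayι]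

variable (B)

theorem chartProj_agree (i j : Adm B) :
    pullback.fst (X.left.homOfLE (le_iSup (fun j : Adm B => nvOpen B.π j.sec) i))
        (X.left.homOfLE (le_iSup (fun j : Adm B => nvOpen B.π j.sec) j)) ≫ chartProj i.inv i.pos i.aff =
      pullback.snd _ _ ≫ chartProj j.inv j.pos j.aff := by
  rw [← cancel_epi (isPullback_opens_inf_le (le_iSup (fun j : Adm B => nvOpen B.π j.sec) i)
    (le_iSup (fun j : Adm B => nvOpen B.π j.sec) j)).isoPullback.hom,
    IsPullback.isoPullback_hom_fst_assoc, IsPullback.isoPullback_hom_snd_assoc]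
  have hm := nvOpen_mul B.atlas i.inv.1 j.inv.1
  have haffp : IsAffineOpen (nvOpen B.π (i.sec * j.sec)) :=
    hm ▸ isAffineOpen_nvOpen_inf B.atlas i.inv.1 i.pos j.inv.1 i.aff
  have hp := isInvSection_mul i.inv j.inv
  rw [← Scheme.homOfLE_homOfLE X.left hm.ge (hm.le.trans inf_le_left), Category.assoc,
    homOfLE_chartProj i.inv i.pos i.aff j.inv hp rfl rfl (Nat.add_pos_left i.pos _) haffp,
    ← Scheme.homOfLE_homOfLE X.left hm.ge (hm.le.trans inf_le_right), Category.assoc,
    homOfLE_chartProj j.inv j.pos j.aff i.inv hp (Nat.add_comm _ _) (mul_comm _ _) (Nat.add_pos_left i.pos _) haffp]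

/-- The map of the semi-stable locus to the projective spectrum. -/
def ssProj : (ssOpen B).toScheme ⟶ (projOver B).left :=
  (Scheme.Opens.iSupOpenCover fun j : Adm B => nvOpen B.π j.sec).glueMorphisms
    (fun j => chartProj j.inv j.pos j.aff) (chartProj_agree B)

theorem ι_ssProj (j : Adm B) :
    X.left.homOfLE (le_iSup (fun j : Adm B => nvOpen B.π j.sec) j) ≫ ssProj B = chartProj j.inv j.pos j.aff :=
  (Scheme.Opens.iSupOpenCover fun j : Adm B => nvOpen B.π j.sec).ι_glueMorphisms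
    (fun j => chartProj j.inv j.pos j.aff) (chartProj_agree B) j

theorem ssProj_over : ssProj B ≫ (projOver B).hom = (ssOpen B).ι ≫ X.hom := by
  refine (Scheme.Opens.iSupOpenCover fun j : Adm B => nvOpen B.π j.sec).hom_ext _ _ fun j => ?_
  show X.left.homOfLE (le_iSup (fun j : Adm B => nvOpen B.π j.sec) j) ≫ ssProj B ≫ _ =
    X.left.homOfLE (le_iSup (fun j : Adm B => nvOpen B.π j.sec) j) ≫ (ssOpen B).ι ≫ X.hom
  rw [reassoc_of% ι_ssProj B j, chartProj_over, Scheme.homOfLE_ι_assoc]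

theorem isLocalizationElem_awayHom {n m : ℕ} {f g : Γ(B.V.left, ⊤)} (hf : B.IsInvSection n f)
    (hg : B.IsInvSection m g) (hm : 0 < m) (hn : 0 < n) :
    X.left.basicOpen (awayHom hf (Away.isLocalizationElem (el_mem hf) (el_mem hg))) =
      nvOpen B.π f ⊓ nvOpen B.π g := by
  have hp : B.IsInvSection (m * n) (g ^ n) := Nat.mul_comm n m ▸ isInvSection_pow hg n
  have e : Away.isLocalizationElem (el_mem hf) (el_mem hg) = Away.mk (grade B) (el_mem hf) m (el hp) (el_mem hp) := by
    rw [HomogeneousLocalization.ext_iff_val, Away.isLocalizationElem, Away.val_mk, Away.val_mk]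
    congr 1
    rw [el_pow]
    exact el_congr _ _ (Nat.mul_comm _ _) rfl
  rw [e, basicOpen_of_isRatio B.atlas (isInvSection_pow hf m).1 hp.1 (nvOpen_pow B.atlas hf.1 hm).ge
    (isRatio_awayHom hf hm hp), nvOpen_pow B.atlas hg.1 hn]

theorem chartProj_preimage {n m : ℕ} {f g : Γ(B.V.left, ⊤)} (hf : B.IsInvSection n f) (hn : 0 < n)
    (haff : IsAffineOpen (nvOpen B.π f)) (hg : B.IsInvSection m g) (hm : 0 < m) :
    chartProj hf hn haff ⁻¹ᵁ dplus hg = (nvOpen B.π f).ι ⁻¹ᵁ (nvOpen B.π f ⊓ nvOpen B.π g) := by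
  rw [← isLocalizationElem_awayHom B hf hg hm hn, chartProj, chartSpec, Scheme.Hom.comp_preimage,
    Scheme.Hom.comp_preimage]
  show _ ⁻¹ᵁ (_ ⁻¹ᵁ (Proj.awayι (grade B) (el hf) (el_mem hf) hn ⁻¹ᵁ Proj.basicOpen (grade B) (el hg))) = _
  rw [Proj.awayι_preimage_basicOpen _ _ _ _ hm]
  show haff.isoSpec.hom ⁻¹ᵁ (PrimeSpectrum.basicOpen (awayHom hf _)) = _
  rw [← haff.fromSpec_preimage_basicOpen, ← Scheme.Hom.comp_preimage, IsAffineOpen.isoSpec_hom_fromSpec]


theorem ssProj_preimage {m : ℕ} {g : Γ(B.V.left, ⊤)} (hg : B.IsInvSection m g) (hm : 0 < m) :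
    ssProj B ⁻¹ᵁ dplus hg = (ssOpen B).ι ⁻¹ᵁ nvOpen B.π g := by
  ext z
  obtain ⟨i, hi⟩ := Opens.mem_iSup.1 z.2
  let w : (nvOpen B.π i.sec).toScheme := ⟨z.1, hi⟩
  have hz : X.left.homOfLE (le_iSup (fun j : Adm B => nvOpen B.π j.sec) i) w = z := by
    refine (ssOpen B).ι.isOpenEmbedding.injective ?_
    rw [← Scheme.Hom.comp_apply, Scheme.homOfLE_ι]
    rfl
  show ssProj B z ∈ dplus hg ↔ z.1 ∈ nvOpen B.π g
  rw [← hz, ← Scheme.Hom.comp_apply, ι_ssProj, hz]
  have := SetLike.ext_iff.1 (chartProj_preimage B i.inv i.pos i.aff hg hm) w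
  exact this.trans ⟨fun h => h.2, fun h => ⟨hi, h⟩⟩

/-- The open of the projective spectrum covered by the charts. -/
def quotOpen : (projOver B).left.Opens := ⨆ j : Adm B, dplus j.inv

theorem range_ssProj_le : Set.range (ssProj B) ⊆ Set.range (quotOpen B).ι := by
  rintro _ ⟨z, rfl⟩
  rw [Scheme.Opens.range_ι]
  obtain ⟨i, hi⟩ := Opens.mem_iSup.1 z.2
  exact Opens.mem_iSup.2 ⟨i, (SetLike.ext_iff.1 (ssProj_preimage B i.inv i.pos) z).2 hi⟩

/-- The quotient. -/
abbrev quotObj : Over (Spec (CommRingCat.of k)) := resObj (projOver B) (quotOpen B)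

/-- The quotient map. -/
def quotMap : resObj X (ssOpen B) ⟶ quotObj B :=
  Over.homMk (IsOpenImmersion.lift (quotOpen B).ι (ssProj B) (range_ssProj_le B)) (by
    show _ ≫ (quotOpen B).ι ≫ (projOver B).hom = (ssOpen B).ι ≫ X.hom
    rw [IsOpenImmersion.lift_fac_assoc, ssProj_over])

theorem quotMap_ι : (quotMap B).left ≫ (quotOpen B).ι = ssProj B := IsOpenImmersion.lift_fac _ _ _

/-- The piece of the quotient over a section. -/
abbrev piece {m : ℕ} {g : Γ(B.V.left, ⊤)} (hg : B.IsInvSection m g) : (quotObj B).left.Opens :=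
  (quotOpen B).ι ⁻¹ᵁ dplus hg

theorem quotMap_preimage {m : ℕ} {g : Γ(B.V.left, ⊤)} (hg : B.IsInvSection m g) (hm : 0 < m) :
    (quotMap B).left ⁻¹ᵁ piece B hg = (ssOpen B).ι ⁻¹ᵁ nvOpen B.π g := by
  rw [piece, ← Scheme.Hom.comp_preimage, quotMap_ι]
  exact ssProj_preimage B hg hm

theorem isOpenCover_piece : IsOpenCover fun j : Adm B => piece B j.inv := by
  refine top_le_iff.1 fun y _ => ?_
  obtain ⟨i, hi⟩ := Opens.mem_iSup.1 y.2
  exact Opens.mem_iSup.2 ⟨i, hi⟩

variable [CharZero k] (hG : Red.IsReductive G) [LocallyOfFiniteType X.hom] [CompactSpace X.left]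
  [QuasiSeparatedSpace X.left]
  (aU : AlgGrp.Action G (resObj X (ssOpen B))) (haU : aU.act ≫ resIncl X (ssOpen B) = (G ◁ resIncl X _) ≫ a.act)

include haU in
theorem isInvariant_ssOpen_piece (j : Adm B) :
    ∃ aj : AlgGrp.Action G (resObj (resObj X (ssOpen B)) ((quotMap B).left ⁻¹ᵁ piece B j.inv)),
      aj.act ≫ resIncl _ _ = (G ◁ resIncl _ _) ≫ aU.act := by
  rw [quotMap_preimage B j.inv j.pos]
  set O := (ssOpen B).ι ⁻¹ᵁ nvOpen B.π j.sec
  let i := resIncl (resObj X (ssOpen B)) O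
  have hr : Set.range ((G ◁ i) ≫ aU.act).left ⊆ Set.range O.ι := by
    rintro _ ⟨z, rfl⟩
    rw [Scheme.Opens.range_ι]
    show (resIncl X (ssOpen B)).left (((G ◁ i) ≫ aU.act).left z) ∈ nvOpen B.π j.sec
    rw [← Scheme.Hom.comp_apply, ← Over.comp_left, Category.assoc, haU, ← whiskerLeft_comp_assoc, Over.comp_left,
      Scheme.Hom.comp_apply]
    refine (preimage_nvOpen j.inv).ge (show (snd G X).left ((G ◁ (i ≫ resIncl X _)).left z) ∈ nvOpen B.π j.sec from ?_)
    rw [← Scheme.Hom.comp_apply, ← Over.comp_left, whiskerLeft_snd, Over.comp_left, Scheme.Hom.comp_apply]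
    exact ((snd G _).left z).2
  let act : G ⊗ resObj (resObj X (ssOpen B)) O ⟶ resObj (resObj X (ssOpen B)) O :=
    Over.homMk (IsOpenImmersion.lift O.ι _ hr) (by
      show _ ≫ O.ι ≫ (resObj X (ssOpen B)).hom = _
      rw [IsOpenImmersion.lift_fac_assoc, Over.w])
  have hact : act ≫ i = (G ◁ i) ≫ aU.act := Over.OverMorphism.ext (IsOpenImmersion.lift_fac _ _ hr)
  refine ⟨⟨act, ?_, ?_⟩, hact⟩
  · rw [← cancel_mono i, Category.assoc, hact, ← whisker_exchange_assoc, aU.one_act]
    simp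
  · rw [← cancel_mono i]
    simp only [Category.assoc, hact]
    rw [← whisker_exchange_assoc, aU.mul_act, ← whiskerLeft_comp_assoc, hact]
    simp

include hG haU in
/-- Over each piece the map is the quotient of the chart. -/
theorem piece_quot (j : Adm B) :
    ∃ aj : AlgGrp.Action G (resObj (resObj X (ssOpen B)) ((quotMap B).left ⁻¹ᵁ piece B j.inv)),
      aj.act ≫ resIncl _ _ = (G ◁ resIncl _ _) ≫ aU.act ∧ GIT.IsUnivCatQuot aj (resHom (quotMap B) (piece B j.inv)) ∧
      GIT.IsUnivSubmersive ((quotMap B).left ∣_ piece B j.inv) ∧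
      Function.Surjective ((quotMap B).left ∣_ piece B j.inv) ∧
      (GIT.IsClosedAction aj → GIT.IsUnivGeomQuot aj (resHom (quotMap B) (piece B j.inv))) ∧
      LocallyOfFiniteType ((piece B j.inv).ι ≫ (quotObj B).hom) ∧
      IsAffineOpen ((quotMap B).left ⁻¹ᵁ piece B j.inv) := by
  obtain ⟨aj, haj⟩ := isInvariant_ssOpen_piece B aU haU j
  let i : resObj (resObj X (ssOpen B)) ((quotMap B).left ⁻¹ᵁ piece B j.inv) ⟶ X := resIncl _ ((quotMap B).left ⁻¹ᵁ piece B j.inv) ≫ resIncl X (ssOpen B)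
  haveI : IsOpenImmersion i.left := inferInstanceAs (IsOpenImmersion (((quotMap B).left ⁻¹ᵁ piece B j.inv).ι ≫ (ssOpen B).ι))
  have hnvle : nvOpen B.π j.sec ≤ ssOpen B := le_iSup (fun j : Adm B => nvOpen B.π j.sec) j
  have hi : Set.range i.left = nvOpen B.π j.sec := by
    refine Set.Subset.antisymm ?_ fun x hx => ?_
    · rintro _ ⟨z, rfl⟩
      exact (quotMap_preimage B j.inv j.pos).le z.2
    · exact ⟨⟨⟨x, hnvle hx⟩, (quotMap_preimage B j.inv j.pos).ge hx⟩, rfl⟩
  have hai : aj.act ≫ i = (G ◁ i) ≫ a.act := by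
    rw [reassoc_of% haj, haU, whiskerLeft_comp_assoc]
  have hrw : Set.range ((piece B j.inv).ι ≫ (quotOpen B).ι) =
      Set.range (Proj.awayι (grade B) (el j.inv) (el_mem j.inv) j.pos) := by
    rw [← Scheme.Hom.coe_opensRange, ← Scheme.Hom.coe_opensRange, Proj.opensRange_awayι, Scheme.Hom.opensRange_comp,
      Scheme.Opens.opensRange_ι, Scheme.Hom.image_preimage_eq_opensRange_inf, Scheme.Opens.opensRange_ι]
    exact congrArg _ (inf_eq_right.2 (le_iSup (fun j : Adm B => dplus j.inv) j))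
  let w := IsOpenImmersion.isoOfRangeEq ((piece B j.inv).ι ≫ (quotOpen B).ι)
    (Proj.awayι (grade B) (el j.inv) (el_mem j.inv) j.pos) hrw
  have hwfac : w.hom ≫ Proj.awayι (grade B) (el j.inv) (el_mem j.inv) j.pos =
      (piece B j.inv).ι ≫ (quotOpen B).ι := IsOpenImmersion.lift_fac _ _ _
  let p := IsOpenImmersion.lift (nvOpen B.π j.sec).ι i.left (by rw [hi, Scheme.Opens.range_ι])
  have hp : p ≫ (nvOpen B.π j.sec).ι = i.left := IsOpenImmersion.lift_fac _ _ _
  have hp2 : p ≫ X.left.homOfLE hnvle = ((quotMap B).left ⁻¹ᵁ piece B j.inv).ι := by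
    rw [← cancel_mono (ssOpen B).ι, Category.assoc, Scheme.homOfLE_ι, hp]
    rfl
  have hgam : ((quotMap B).left ∣_ piece B j.inv) ≫ w.hom = p ≫ chartSpec j.inv j.aff := by
    rw [← cancel_mono (Proj.awayι (grade B) (el j.inv) (el_mem j.inv) j.pos), Category.assoc, hwfac,
      morphismRestrict_ι_assoc, quotMap_ι, Category.assoc]
    show ((quotMap B).left ⁻¹ᵁ piece B j.inv).ι ≫ ssProj B = p ≫ chartProj j.inv j.pos j.aff
    rw [← hp2, Category.assoc, ι_ssProj]
  obtain ⟨h1, h2, h3, h4, h5⟩ := chart_quot j.inv j.pos j.aff hG i hi aj hai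
    (resHom (quotMap B) (piece B j.inv)) w (by
      rw [← awayι_over j.inv j.pos, reassoc_of% hwfac]
      rfl) p hp hgam
  refine ⟨aj, haj, h1, h2, h3, h4, h5 inferInstance, ?_⟩
  rw [quotMap_preimage B j.inv j.pos]
  refine (Scheme.Opens.ι _).isAffineOpen_iff_of_isOpenImmersion.1 ?_
  rw [Scheme.Hom.image_preimage_eq_opensRange_inf, Scheme.Opens.opensRange_ι, inf_eq_right.2 hnvle]
  exact j.aff

include hG haU in
theorem isInvariant_quotMap : GIT.IsInvariant aU (quotMap B) := by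
  refine Over.OverMorphism.ext ?_
  have hc : IsOpenCover fun j : Adm B => (snd G (resObj X (ssOpen B))).left ⁻¹ᵁ ((quotMap B).left ⁻¹ᵁ piece B j.inv) :=
    ((isOpenCover_piece B).comap ⟨(quotMap B).left, (quotMap B).left.continuous⟩).comap
      ⟨(snd G _).left, (snd G (resObj X (ssOpen B))).left.continuous⟩
  refine (Scheme.openCoverOfIsOpenCover _ _ hc).hom_ext _ _ fun j => ?_
  obtain ⟨aj, haj, h2, -⟩ := piece_quot B hG aU haU j
  let O := (quotMap B).left ⁻¹ᵁ piece B j.inv
  let i := resIncl (resObj X (ssOpen B)) O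
  haveI : IsOpenImmersion (G ◁ i).left :=
    MorphismProperty.of_isPullback (P := @IsOpenImmersion) (H20GQ.isPullback_whiskerLeft i G)
      (inferInstanceAs (IsOpenImmersion O.ι))
  have hr : Set.range ((snd G (resObj X (ssOpen B))).left ⁻¹ᵁ O).ι ⊆ Set.range (G ◁ i).left := by
    rw [Scheme.Opens.range_ι]
    intro z hz
    obtain ⟨q, -, hq⟩ := Scheme.exists_preimage_of_isPullback (H20GQ.isPullback_whiskerLeft i G)
      (⟨(snd G _).left z, hz⟩ : O.toScheme) z rfl
    exact ⟨q, hq⟩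
  have key : (G ◁ i) ≫ aU.act ≫ quotMap B = (G ◁ i) ≫ snd G _ ≫ quotMap B := by
    rw [← reassoc_of% haj, whiskerLeft_snd_assoc]
    have hw := (H20GQ.isPullback_resHom (quotMap B) (piece B j.inv)).w
    rw [hw, reassoc_of% h2.1.1]
  show ((snd G (resObj X (ssOpen B))).left ⁻¹ᵁ O).ι ≫ _ = ((snd G (resObj X (ssOpen B))).left ⁻¹ᵁ O).ι ≫ _
  rw [← IsOpenImmersion.lift_fac (G ◁ i).left _ hr, Category.assoc, Category.assoc]
  congr 1
  exact congrArg (fun m : G ⊗ resObj (resObj X (ssOpen B)) O ⟶ quotObj B => m.left) key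

include hG haU in
theorem isUnivCatQuot_quotMap : GIT.IsUnivCatQuot aU (quotMap B) :=
  H20GQ.isUnivCatQuot_of_cover (isInvariant_quotMap B hG aU haU) _ (isOpenCover_piece B) fun j => by
    obtain ⟨aj, h1, h2, -⟩ := piece_quot B hG aU haU j
    exact ⟨aj, h1, h2⟩

include hG haU in
theorem isUnivSubmersive_quotMap : GIT.IsUnivSubmersive (quotMap B).left :=
  H20GQ.isUnivSubmersive_of_cover _ _ (isOpenCover_piece B) fun j => by
    obtain ⟨aj, -, -, h, -⟩ := piece_quot B hG aU haU j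
    exact h

include hG haU in
theorem isAffineHom_quotMap : IsAffineHom (quotMap B).left := by
  refine isAffineHom_of_forall_exists_isAffineOpen _ fun y => ?_
  obtain ⟨j, hj⟩ := (isOpenCover_piece B).exists_mem y
  obtain ⟨aj, -, -, -, -, -, -, h⟩ := piece_quot B hG aU haU j
  refine ⟨piece B j.inv, hj, ?_, h⟩
  refine (Scheme.Opens.ι _).isAffineOpen_iff_of_isOpenImmersion.1 ?_
  rw [Scheme.Hom.image_preimage_eq_opensRange_inf, Scheme.Opens.opensRange_ι,
    inf_eq_right.2 (show dplus j.inv ≤ quotOpen B from le_iSup (fun j : Adm B => dplus j.inv) j)]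
  exact Proj.isAffineOpen_basicOpen _ _ (el_mem j.inv) j.pos

include hG haU in
theorem locallyOfFiniteType_quotObj : LocallyOfFiniteType (quotObj B).hom := by
  refine (IsZariskiLocalAtSource.iff_of_iSup_eq_top (P := @LocallyOfFiniteType) _ (isOpenCover_piece B)).2 fun j => ?_
  obtain ⟨aj, -, -, -, -, -, h, -⟩ := piece_quot B hG aU haU j
  exact h

include hG haU in
theorem surjective_quotMap : Function.Surjective (quotMap B).left := fun y => by
  obtain ⟨j, hj⟩ := (isOpenCover_piece B).exists_mem y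
  obtain ⟨aj, -, -, -, h, -⟩ := piece_quot B hG aU haU j
  obtain ⟨z, hz⟩ := h ⟨y, hj⟩
  refine ⟨z.1, ?_⟩
  have := congrArg (piece B j.inv).ι hz
  rw [← Scheme.Hom.comp_apply, morphismRestrict_ι] at this
  exact this

end

end Groth.Agent.H20SS
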