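import Groth.Agent.H20SS.Extend
import Mathlib.RingTheory.GradedAlgebra.HomogeneousLocalization

/-!
The graded ring of invariant sections and its homogeneous localisations.
-/

set_option autoImplicit false
set_option linter.style.haveILetI false
set_option linter.unusedSectionVars false
set_option backward.isDefEq.respectTransparency false

universe u

open CategoryTheory CategoryTheory.Limits MonoidalCategory CartesianMonoidalCategory MonObj GrpObj AlgebraicGeometry
  Opposite TopologicalSpace HomogeneousLocalization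

namespace Groth.Agent.H20SS

noncomputable section

theorem le_basicOpen_of_isUnit_res {Y : Scheme.{u}} {U O : Y.Opens} (h : O ≤ U) (t : Γ(Y, U))
    (hu : IsUnit (Y.presheaf.map (homOfLE h).op t)) : O ≤ Y.basicOpen t := by
  intro p hp
  have := (Y.basicOpen_of_isUnit hu).ge hp
  rw [Scheme.basicOpen_res] at this
  exact this.2

variable {S : Scheme.{u}} {G X : Over S} [GrpObj G] {a : AlgGrp.Action G X} (B : GLinSh.LinBun G a)

/-- The ring of invariant sections of all weights. -/
def invRing : Subring (Polynomial Γ(B.V.left, ⊤)) where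
  carrier := {p | ∀ n, B.IsInvSection n (p.coeff n)}
  one_mem' := fun n => by
    rw [Polynomial.coeff_one]
    split_ifs with h
    · subst h; exact isInvSection_one B
    · exact isInvSection_zero n
  zero_mem' := fun n => by rw [Polynomial.coeff_zero]; exact isInvSection_zero n
  add_mem' := fun {p q} hp hq n => by rw [Polynomial.coeff_add]; exact isInvSection_add (hp n) (hq n)
  neg_mem' := fun {p} hp n => by rw [Polynomial.coeff_neg]; exact isInvSection_neg (hp n)
  mul_mem' := fun {p q} hp hq n => by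
    rw [Polynomial.coeff_mul]
    exact isInvSection_sum _ fun x hx => Finset.mem_antidiagonal.1 hx ▸ isInvSection_mul (hp x.1) (hq x.2)

/-- The sections of weight `n`. -/
def grade (n : ℕ) : AddSubgroup (invRing B) where
  carrier := {p | ∀ m, m ≠ n → (p.1).coeff m = 0}
  add_mem' := fun {p q} hp hq m hm => by
    show (p.1 + q.1).coeff m = 0
    rw [Polynomial.coeff_add, hp m hm, hq m hm, add_zero]
  zero_mem' := fun m _ => Polynomial.coeff_zero m
  neg_mem' := fun {p} hp m hm => by
    show (-p.1).coeff m = 0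
    rw [Polynomial.coeff_neg, hp m hm, neg_zero]

variable {B}

/-- An invariant section as an element of the ring. -/
def el {n : ℕ} {f : Γ(B.V.left, ⊤)} (hf : B.IsInvSection n f) : invRing B :=
  ⟨Polynomial.monomial n f, fun m => by
    rw [Polynomial.coeff_monomial]
    split_ifs with h
    · subst h; exact hf
    · exact isInvSection_zero m⟩

@[simp] theorem coeff_el {n : ℕ} {f : Γ(B.V.left, ⊤)} (hf : B.IsInvSection n f) : (el hf).1.coeff n = f := by
  simp [el]

theorem el_mem {n : ℕ} {f : Γ(B.V.left, ⊤)} (hf : B.IsInvSection n f) : el hf ∈ grade B n := fun m hm => by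
  simp [el, Polynomial.coeff_monomial, Ne.symm hm]

theorem eq_el {n : ℕ} {p : invRing B} (hp : p ∈ grade B n) : p = el (p.2 n) := by
  refine Subtype.ext (Polynomial.ext fun m => ?_)
  by_cases h : m = n
  · subst h; exact (coeff_el (p.2 m)).symm
  · rw [hp m h, el_mem (p.2 n) m h]

theorem el_congr {n m : ℕ} {f g : Γ(B.V.left, ⊤)} (hf : B.IsInvSection n f) (hg : B.IsInvSection m g) (h₁ : n = m)
    (h₂ : f = g) : el hf = el hg := by
  subst h₁; subst h₂; rfl

theorem el_mul {n m : ℕ} {f g : Γ(B.V.left, ⊤)} (hf : B.IsInvSection n f) (hg : B.IsInvSection m g) :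
    el hf * el hg = el (isInvSection_mul hf hg) :=
  Subtype.ext (Polynomial.monomial_mul_monomial n m f g)

theorem el_pow {n : ℕ} {f : Γ(B.V.left, ⊤)} (hf : B.IsInvSection n f) (N : ℕ) :
    el hf ^ N = el (isInvSection_pow hf N) := by
  refine Subtype.ext ?_
  show (Polynomial.monomial n f) ^ N = Polynomial.monomial (N * n) (f ^ N)
  rw [Polynomial.monomial_pow, Nat.mul_comm]

instance gradedMonoid : SetLike.GradedMonoid (grade B) where
  one_mem := fun m hm => by
    show (1 : Polynomial _).coeff m = 0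
    rw [Polynomial.coeff_one, if_neg hm]
  mul_mem := fun i j p q hp hq m hm => by
    show (p.1 * q.1).coeff m = 0
    rw [Polynomial.coeff_mul]
    refine Finset.sum_eq_zero fun x hx => ?_
    by_cases h : x.1 = i
    · rw [hq x.2 (fun h2 => hm (by rw [← Finset.mem_antidiagonal.1 hx, h, h2])), mul_zero]
    · rw [hp x.1 h, zero_mul]

theorem coeff_coe (z : DirectSum ℕ fun i => grade B i) (i : ℕ) :
    (DirectSum.coeAddMonoidHom (grade B) z).1.coeff i = (z i).1.1.coeff i := by
  let c : invRing B →+ Γ(B.V.left, ⊤) :=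
    { toFun := fun p => p.1.coeff i
      map_zero' := Polynomial.coeff_zero i
      map_add' := fun p q => Polynomial.coeff_add p.1 q.1 i }
  have key : c.comp (DirectSum.coeAddMonoidHom (grade B)) =
      (c.comp (grade B i).subtype).comp (DFinsupp.evalAddMonoidHom (β := fun i => ↥(grade B i)) i) := by
    refine DirectSum.addHom_ext fun j v => ?_
    show c (DirectSum.coeAddMonoidHom (grade B) (DirectSum.of (fun i => ↥(grade B i)) j v)) =
      c ((DirectSum.of (fun i => ↥(grade B i)) j v i).1)
    rw [DirectSum.coeAddMonoidHom_of]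
    by_cases h : j = i
    · subst h; rw [DirectSum.of_eq_same]
    · rw [DirectSum.of_eq_of_ne _ _ _ (Ne.symm h)]
      exact (v.2 i (Ne.symm h)).trans (Polynomial.coeff_zero i).symm
  exact DFunLike.congr_fun key z

theorem isInternal_grade : DirectSum.IsInternal (grade B) := by
  refine ⟨fun z w h => ?_, fun p => ?_⟩
  · refine DFunLike.ext _ _ fun i => Subtype.ext (Subtype.ext (Polynomial.ext fun m => ?_))
    by_cases hm : m = i
    · subst hm; rw [← coeff_coe, ← coeff_coe]; exact congrArg (fun q : invRing B => q.1.coeff m) h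
    · rw [(z i).2 m hm, (w i).2 m hm]
  · refine ⟨∑ i ∈ p.1.support, DirectSum.of (fun i => grade B i) i ⟨el (p.2 i), el_mem _⟩, ?_⟩
    rw [map_sum]
    refine Subtype.ext ?_
    rw [AddSubmonoidClass.coe_finsetSum]
    simp only [DirectSum.coeAddMonoidHom_of]
    exact (p.1.as_sum_support).symm

instance gradedRing : GradedRing (grade B) :=
  { gradedMonoid, isInternal_grade.chooseDecomposition (grade B) with }

theorem exists_el_of_mem {n N : ℕ} {p : invRing B} (hp : p ∈ grade B (N • n)) :
    ∃ g, ∃ hg : B.IsInvSection (N * n) g, p = el hg :=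
  ⟨p.1.coeff (N * n), p.2 _, eq_el (n := N * n) hp⟩

/-- Evaluation of the ring of invariant sections on the non-vanishing locus of a section. -/
def evalF (f : Γ(B.V.left, ⊤)) :
    invRing B →+* Γ(B.V.left, B.π.left ⁻¹ᵁ nvOpen B.π f ⊓ B.V.left.basicOpen f) :=
  (resF B.π (nvOpen B.π f) f).hom.comp ((Polynomial.evalRingHom (1 : Γ(B.V.left, ⊤))).comp (invRing B).subtype)

theorem evalF_el (f : Γ(B.V.left, ⊤)) {m : ℕ} {g : Γ(B.V.left, ⊤)} (hg : B.IsInvSection m g) :
    evalF f (el hg) = resF B.π (nvOpen B.π f) f g := by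
  simp [evalF, el]

variable {n : ℕ} {f : Γ(B.V.left, ⊤)} (hf : B.IsInvSection n f)

/-- The homogeneous localisation evaluated on the non-vanishing locus. -/
def awayEval : Away (grade B) (el hf) →+* Γ(B.V.left, B.π.left ⁻¹ᵁ nvOpen B.π f ⊓ B.V.left.basicOpen f) :=
  (IsLocalization.Away.lift (S := Localization.Away (el hf)) (el hf) (g := evalF f)
    (by rw [evalF_el]; exact isUnit_resF _ f)).comp
    (algebraMap (Away (grade B) (el hf)) (Localization.Away (el hf)))

theorem awayEval_mk (N : ℕ) {g : Γ(B.V.left, ⊤)} (hg : B.IsInvSection (N * n) g) :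
    awayEval hf (Away.mk (grade B) (el_mem hf) N (el hg) (el_mem hg)) * resF B.π (nvOpen B.π f) f f ^ N =
      resF B.π (nvOpen B.π f) f g := by
  rw [awayEval, RingHom.comp_apply, HomogeneousLocalization.algebraMap_apply, Away.val_mk, ← evalF_el f hf,
    ← IsLocalization.Away.lift_eq (S := Localization.Away (el hf)) (g := evalF f) (el hf)
      (by rw [evalF_el]; exact isUnit_resF _ f) (el hf),
    ← map_pow, ← map_mul, ← evalF_el f hg,
    ← IsLocalization.Away.lift_eq (S := Localization.Away (el hf)) (g := evalF f) (el hf)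
      (by rw [evalF_el]; exact isUnit_resF _ f) (el hg)]
  congr 1
  rw [← map_pow, Localization.mk_eq_mk']
  exact IsLocalization.mk'_spec (Localization.Away (el hf)) (el hg) (⟨el hf ^ N, N, rfl⟩ : Submonoid.powers (el hf))

/-- Ratio with a power, in terms of the non-vanishing locus of the section. -/
theorem isRatio_pow_iff {f g : Γ(B.V.left, ⊤)} {W : X.left.Opens} {h : Γ(X.left, W)} {N : ℕ} (hN : 0 < N) :
    IsRatio (π := B.π) W (f ^ N) g h ↔
      embSec B.π W f h * resF B.π W f f ^ N = resF B.π W f g := by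
  have e : B.V.left.basicOpen (f ^ N) = B.V.left.basicOpen f := B.V.left.basicOpen_pow f hN
  have h1 : B.π.left ⁻¹ᵁ W ⊓ B.V.left.basicOpen f ≤ B.π.left ⁻¹ᵁ W ⊓ B.V.left.basicOpen (f ^ N) := by rw [e]
  have h2 : B.π.left ⁻¹ᵁ W ⊓ B.V.left.basicOpen (f ^ N) ≤ B.π.left ⁻¹ᵁ W ⊓ B.V.left.basicOpen f := by rw [e]
  unfold IsRatio
  constructor
  · intro hh
    have := congrArg (B.V.left.presheaf.map (homOfLE h1).op) hh
    rw [map_mul, res_res, res_res, res_appLE, map_pow] at this
    exact this
  · intro hh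
    have := congrArg (B.V.left.presheaf.map (homOfLE h2).op) hh
    rw [map_mul, map_pow, res_res, res_res, res_appLE] at this
    rw [map_pow]
    exact this

theorem IsRatio.mul_right {f g : Γ(B.V.left, ⊤)} (t : Γ(B.V.left, ⊤)) {W : X.left.Opens} {h : Γ(X.left, W)}
    (hh : IsRatio (π := B.π) W f g h) : IsRatio (π := B.π) W (f * t) (g * t) h := by
  have h1 : B.π.left ⁻¹ᵁ W ⊓ B.V.left.basicOpen (f * t) ≤ B.π.left ⁻¹ᵁ W ⊓ B.V.left.basicOpen f :=
    inf_le_inf_left _ (by rw [Scheme.basicOpen_mul]; exact inf_le_left)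
  unfold IsRatio at hh ⊢
  have := congrArg (B.V.left.presheaf.map (homOfLE h1).op) hh
  rw [map_mul, res_res, res_res, res_appLE] at this
  rw [map_mul, map_mul, ← _root_.mul_assoc, this]

theorem awayEval_mem_range (z : Away (grade B) (el hf)) :
    awayEval hf z ∈ (embSec B.π (nvOpen B.π f) f).hom.range := by
  obtain ⟨N, p, hp, rfl⟩ := Away.mk_surjective (grade B) (el_mem hf) z
  obtain ⟨g, hg, rfl⟩ := exists_el_of_mem hp
  have hg' : B.IsInvSection ((N + 1) * n) (g * f) := by
    rw [Nat.succ_mul]; exact isInvSection_mul hg hf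
  obtain ⟨h, hh⟩ := exists_isRatio B.atlas (isInvSection_pow hf (N + 1)).1 hg'.1
    (nvOpen_pow B.atlas hf.1 (Nat.succ_pos N)).ge
  rw [isRatio_pow_iff (Nat.succ_pos N), map_mul, ← awayEval_mk hf N hg, _root_.mul_assoc, ← pow_succ] at hh
  exact ⟨h, ((isUnit_resF _ f).pow _).mul_left_injective hh⟩

theorem bijective_rangeRestrict_embSec {n : ℕ} {f : Γ(B.V.left, ⊤)} (hf : B.IsInvSection n f) :
    Function.Bijective (embSec B.π (nvOpen B.π f) f).hom.rangeRestrict :=
  ⟨fun _ _ h => injective_embSec B.atlas hf.1 le_rfl (congrArg Subtype.val h),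
    (embSec B.π (nvOpen B.π f) f).hom.rangeRestrict_surjective⟩

/-- The homogeneous localisation as functions on the non-vanishing locus. -/
def awayHom : Away (grade B) (el hf) →+* Γ(X.left, nvOpen B.π f) :=
  (RingEquiv.ofBijective _ (bijective_rangeRestrict_embSec hf)).symm.toRingHom.comp
    ((awayEval hf).codRestrict _ (awayEval_mem_range hf))

theorem embSec_awayHom (z : Away (grade B) (el hf)) :
    embSec B.π (nvOpen B.π f) f (awayHom hf z) = awayEval hf z :=
  congrArg Subtype.val ((RingEquiv.ofBijective _ (bijective_rangeRestrict_embSec hf)).apply_symm_apply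
    ⟨awayEval hf z, awayEval_mem_range hf z⟩)

theorem isRatio_awayHom {N : ℕ} (hN : 0 < N) {g : Γ(B.V.left, ⊤)} (hg : B.IsInvSection (N * n) g) :
    IsRatio (π := B.π) (nvOpen B.π f) (f ^ N) g
      (awayHom hf (Away.mk (grade B) (el_mem hf) N (el hg) (el_mem hg))) := by
  rw [isRatio_pow_iff hN, embSec_awayHom, awayEval_mk]

theorem exists_rep (z : Away (grade B) (el hf)) :
    ∃ (N : ℕ) (_ : 0 < N) (g : Γ(B.V.left, ⊤)) (hg : B.IsInvSection (N * n) g),
      z = Away.mk (grade B) (el_mem hf) N (el hg) (el_mem hg) := by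
  obtain ⟨N, p, hp, rfl⟩ := Away.mk_surjective (grade B) (el_mem hf) z
  obtain ⟨g, hg, rfl⟩ := exists_el_of_mem hp
  have hg' : B.IsInvSection ((N + 1) * n) (g * f) := by
    rw [Nat.succ_mul]; exact isInvSection_mul hg hf
  refine ⟨N + 1, Nat.succ_pos N, g * f, hg', ?_⟩
  rw [HomogeneousLocalization.ext_iff_val, Away.val_mk, Away.val_mk, Localization.mk_eq_mk_iff,
    Localization.r_iff_exists]
  refine ⟨1, ?_⟩
  rw [el_congr hg' (isInvSection_mul hg hf) (by rw [Nat.succ_mul]) rfl, ← el_mul hg hf]
  simp only [OneMemClass.coe_one, pow_succ]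
  ring

theorem isInvOn_awayHom (z : Away (grade B) (el hf)) : IsInvOn a (nvOpen B.π f) (awayHom hf z) := by
  obtain ⟨N, hN, g, hg, rfl⟩ := exists_rep hf z
  exact isInvOn_of_isRatio (isInvSection_pow hf N) hg.2 (nvOpen_pow B.atlas hf.1 hN).ge (isRatio_awayHom hf hN hg)

theorem injective_awayHom [CompactSpace X.left] : Function.Injective (awayHom hf) := by
  haveI := compactSpace_total (B := B)
  rw [injective_iff_map_eq_zero]
  intro z hz
  obtain ⟨N, hN, g, hg, rfl⟩ := exists_rep hf z
  have h1 := awayEval_mk hf N hg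
  rw [← embSec_awayHom, hz, map_zero, zero_mul] at h1
  have hle : B.V.left.basicOpen f ≤ B.π.left ⁻¹ᵁ nvOpen B.π f ⊓ B.V.left.basicOpen f :=
    le_inf (basicOpen_le_preimage_nvOpen B.atlas hf.1) le_rfl
  have h2 := congrArg (B.V.left.presheaf.map (homOfLE hle).op) h1.symm
  rw [res_res, map_zero] at h2
  obtain ⟨M, hM⟩ := exists_pow_mul_eq_zero_of_res_basicOpen_eq_zero_of_isCompact B.V.left
    (U := ⊤) isCompact_univ g f h2
  rw [HomogeneousLocalization.ext_iff_val, HomogeneousLocalization.val_zero, Away.val_mk,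
    ← Localization.mk_zero 1, Localization.mk_eq_mk_iff, Localization.r_iff_exists]
  refine ⟨⟨el hf ^ M, M, rfl⟩, ?_⟩
  simp only [OneMemClass.coe_one, _root_.one_mul, mul_zero]
  rw [el_pow, el_mul]
  exact Subtype.ext (by show Polynomial.monomial _ (f ^ M * g) = 0; rw [hM, map_zero])

theorem exists_awayHom_eq [CompactSpace X.left] [QuasiSeparatedSpace X.left] [QuasiCompact G.hom]
    (h : Γ(X.left, nvOpen B.π f)) (hh : IsInvOn a (nvOpen B.π f) h) :
    ∃ z, awayHom hf z = h := by
  obtain ⟨N, g, hg, hr⟩ := exists_extension hf h hh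
  have hg' : B.IsInvSection ((N + 1) * n) (g * f) := by
    rw [Nat.succ_mul]; exact isInvSection_mul hg hf
  refine ⟨Away.mk (grade B) (el_mem hf) (N + 1) (el hg') (el_mem hg'), ?_⟩
  refine IsRatio.eq B.atlas (isInvSection_pow hf (N + 1)).1 (nvOpen_pow B.atlas hf.1 (Nat.succ_pos N)).ge
    (isRatio_awayHom hf (Nat.succ_pos N) hg') ?_
  rw [pow_succ]
  exact hr.mul_right f

/-- Compatibility with refining the section. -/
theorem awayHom_awayMap {m : ℕ} {g : Γ(B.V.left, ⊤)} (hg : B.IsInvSection m g) (z : Away (grade B) (el hf))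
    (e : nvOpen B.π (f * g) ≤ nvOpen B.π f) :
    awayHom (isInvSection_mul hf hg) (awayMap (grade B) (el_mem hg) (el_mul hf hg).symm z) =
      X.left.presheaf.map (homOfLE e).op (awayHom hf z) := by
  obtain ⟨N, hN, p, hp, rfl⟩ := exists_rep hf z
  have hp' : B.IsInvSection (N * (n + m)) (p * g ^ N) := by
    rw [Nat.mul_add]; exact isInvSection_mul hp (isInvSection_pow hg N)
  have hm : awayMap (grade B) (el_mem hg) (el_mul hf hg).symm (Away.mk (grade B) (el_mem hf) N (el hp) (el_mem hp)) =
      Away.mk (grade B) (el_mem (isInvSection_mul hf hg)) N (el hp') (el_mem hp') := by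
    rw [HomogeneousLocalization.awayMap_mk, HomogeneousLocalization.ext_iff_val, Away.val_mk, Away.val_mk]
    congr 1
    rw [el_pow, el_mul]
    exact el_congr _ _ (Nat.mul_add N n m).symm rfl
  rw [hm]
  refine IsRatio.eq B.atlas (isInvSection_pow (isInvSection_mul hf hg) N).1
    (nvOpen_pow B.atlas (isInvSection_mul hf hg).1 hN).ge (isRatio_awayHom _ hN hp') ?_
  rw [mul_pow]
  exact ((isRatio_awayHom hf hN hp).res e).mul_right (g ^ N)

end

end Groth.Agent.H20SS
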